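import Groth.Prelude.Def_Formal
import Mathlib.CategoryTheory.Sites.SheafCohomology.Basic
import Mathlib.Topology.Category.TopCat.Opens

/-!
# Formal functions in degree zero, on sections
-/

universe u

open CategoryTheory Limits Opposite TopologicalSpace AlgebraicGeometry

namespace Groth.Agent.Lib.HensSch.FormalH0

variable {A : Type u} [CommRing A] {X : Scheme.{u}} [X.Over (Spec (CommRingCat.of A))] {I : Ideal A}
  {M : X.Modules}

/-- Global sections as `H^0`. -/
noncomputable def e₀ (N : X.Modules) : Coh.HH X N 0 ≃+ Γ(N, ⊤) :=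
  Sheaf.H.equiv₀ (Coh.toAb N) (Preorder.isTerminalTop X.Opens)

lemma e₀_map {N N' : X.Modules} (f : N ⟶ N') (x : Coh.HH X N 0) :
    e₀ N' (Sheaf.H.map ((SheafOfModules.toSheaf _).map f) 0 x) = f.app ⊤ (e₀ N x) :=
  (Sheaf.H.equiv₀_naturality (f := (SheafOfModules.toSheaf _).map f)
    (hT := Preorder.isTerminalTop X.Opens) x).symm

lemma injective_of_bijective (h : Function.Bijective (_root_.Formal.toHHlim I M 0)) (s : Γ(M, ⊤))
    (hs : ∀ n, (_root_.Formal.modPowπ I (n + 1) M).app ⊤ s = 0) : s = 0 := by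
  have h0 : (e₀ M).symm s = 0 := h.1 (Subtype.ext (funext fun n => by
    rw [map_zero]
    refine (e₀ _).injective ?_
    refine (e₀_map (_root_.Formal.modPowπ I (n + 1) M) ((e₀ M).symm s)).trans ?_
    rw [AddEquiv.apply_symm_apply, hs n]
    exact (map_zero (e₀ _)).symm))
  exact (e₀ M).symm.injective (h0.trans (map_zero _).symm)

lemma surjective_of_bijective (h : Function.Bijective (_root_.Formal.toHHlim I M 0))
    (c : ∀ n, Γ(_root_.Formal.modPow I (n + 1) M, ⊤))
    (hc : ∀ n, (_root_.Formal.modPowTrans I (n + 1) M).app ⊤ (c (n + 1)) = c n) :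
    ∃ s : Γ(M, ⊤), ∀ n, (_root_.Formal.modPowπ I (n + 1) M).app ⊤ s = c n := by
  have hmem : (fun n => (e₀ _).symm (c n)) ∈ _root_.Formal.HHlim I M 0 := fun n => by
    refine (e₀ _).injective ?_
    refine (e₀_map (_root_.Formal.modPowTrans I (n + 1) M) ((e₀ _).symm (c (n + 1)))).trans ?_
    rw [AddEquiv.apply_symm_apply, AddEquiv.apply_symm_apply]
    exact hc n
  obtain ⟨x, hx⟩ := h.2 ⟨_, hmem⟩
  refine ⟨e₀ M x, fun n => ?_⟩
  refine (e₀_map _ x).symm.trans ?_
  have := congrFun (congrArg Subtype.val hx) n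
  exact (congrArg (e₀ _) this).trans (AddEquiv.apply_symm_apply _ _)

end Groth.Agent.Lib.HensSch.FormalH0
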