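import Groth.Agent.Lib.Henselian.EtaleHom
import Mathlib.RingTheory.Valuation.LocalSubring
import Mathlib.FieldTheory.IsAlgClosed.Basic
import Mathlib.RingTheory.IntegralClosure.IntegrallyClosed
import Mathlib.RingTheory.Localization.Integral

/-!
# Local rings of the integral closure in an algebraically closed field

For `N` the integral closure of `S` in an algebraically closed field `Ω` and `Q` a prime of `N`:
`N_Q ⊆ Ω` is a Henselian local ring with algebraically closed residue field, and maps from étale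
algebras into a local subring dominating it factor through it (`exists_through`).
-/

universe u

open Polynomial TensorProduct

namespace Groth.Agent.Lib.HensSch.AlgClosure

variable (S : Type u) [CommRing S] (Ω : Type u) [Field Ω] [Algebra S Ω]

/-- The integral closure of `S` in `Ω`. -/
abbrev NN : Type u := integralClosure S Ω

variable {S Ω} (Q : Ideal (NN S Ω)) [Q.IsPrime]

/-- The localization at `Q`. -/
abbrev NQ : Type u := Localization.AtPrime Q

theorem val_primeCompl (y : Q.primeCompl) :
    IsUnit ((integralClosure S Ω).val (y : NN S Ω)) := by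
  refine isUnit_iff_ne_zero.mpr fun h => y.2 ?_
  have : (y : NN S Ω) = 0 := Subtype.ext h
  rw [this]
  exact Q.zero_mem

/-- `N_Q → Ω`. -/
noncomputable def loc : NQ Q →ₐ[S] Ω :=
  IsLocalization.liftAlgHom (M := Q.primeCompl) (S := NQ Q) (f := (integralClosure S Ω).val)
    (val_primeCompl Q)

theorem loc_algebraMap (a : NN S Ω) : loc Q (algebraMap (NN S Ω) (NQ Q) a) = (a : Ω) :=
  IsLocalization.lift_eq _ a

theorem loc_injective : Function.Injective (loc Q) := by
  rw [injective_iff_map_eq_zero]
  intro z hz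
  obtain ⟨a, b, rfl⟩ := IsLocalization.exists_mk'_eq Q.primeCompl z
  have h := congrArg (loc Q) (IsLocalization.mk'_spec (NQ Q) a b)
  rw [map_mul, hz, zero_mul, loc_algebraMap] at h
  have : a = 0 := Subtype.ext h.symm
  rw [this, IsLocalization.mk'_zero]

theorem mem_range_loc {w : Ω} (a b : NN S Ω) (ha : a ∉ Q) (h : w * (a : Ω) = b) :
    w ∈ (loc Q).range := by
  refine ⟨IsLocalization.mk' (NQ Q) b (⟨a, ha⟩ : Q.primeCompl), ?_⟩
  have h' := congrArg (loc Q) (IsLocalization.mk'_spec (NQ Q) b (⟨a, ha⟩ : Q.primeCompl))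
  rw [map_mul, loc_algebraMap, loc_algebraMap, ← h] at h'
  exact (val_primeCompl Q ⟨a, ha⟩).mul_right_cancel h'

theorem exists_mul_mem {w : Ω} (hw : w ∈ (loc Q).range) :
    ∃ a b : NN S Ω, a ∉ Q ∧ w * (a : Ω) = b := by
  obtain ⟨z, rfl⟩ := hw
  obtain ⟨b, a, rfl⟩ := IsLocalization.exists_mk'_eq Q.primeCompl z
  refine ⟨a, b, a.2, ?_⟩
  have h' := congrArg (loc Q) (IsLocalization.mk'_spec (NQ Q) b a)
  rw [map_mul, loc_algebraMap, loc_algebraMap] at h'
  exact h'

variable [IsAlgClosed Ω]

/-- Monic polynomials over `N_Q` have their roots in `N_Q`. -/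
theorem mem_range_loc_of_root {p : (NQ Q)[X]} (hp : p.Monic) {r : Ω}
    (hr : (p.map (loc Q).toRingHom).IsRoot r) : r ∈ (loc Q).range := by
  letI : Algebra (NQ Q) Ω := (loc Q).toRingHom.toAlgebra
  haveI : IsScalarTower (NN S Ω) (NQ Q) Ω :=
    IsScalarTower.of_algebraMap_eq fun a => (loc_algebraMap Q a).symm
  have hint : IsIntegral (NQ Q) r := ⟨p, hp, by rw [← Polynomial.eval_map]; exact hr⟩
  obtain ⟨⟨m, hm⟩, hr'⟩ := IsIntegral.exists_multiple_integral_of_isLocalization Q.primeCompl r hint
  have hS : IsIntegral S (m • r) := isIntegral_trans (R := S) (A := NN S Ω) _ hr'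
  refine mem_range_loc Q m ⟨m • r, hS⟩ hm ?_
  show r * (m : Ω) = m • r
  rw [mul_comm]
  rfl

/-- Monic polynomials over `N_Q` split over `N_Q`. -/
theorem exists_roots {p : (NQ Q)[X]} (hp : p.Monic) :
    ∃ s : Multiset (NQ Q), p = (s.map fun a => X - C a).prod := by
  have hsp := IsAlgClosed.splits (p.map (loc Q).toRingHom)
  have hmem : ∀ r ∈ (p.map (loc Q).toRingHom).roots, r ∈ (loc Q).range := fun r hr =>
    mem_range_loc_of_root Q hp (isRoot_of_mem_roots hr)
  obtain ⟨s, hs⟩ : ∃ s : Multiset (NQ Q), s.map (loc Q) = (p.map (loc Q).toRingHom).roots := by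
    refine ⟨(p.map (loc Q).toRingHom).roots.attach.map fun r => Classical.choose (hmem r.1 r.2), ?_⟩
    rw [Multiset.map_map]
    conv_rhs => rw [← Multiset.attach_map_val (p.map (loc Q).toRingHom).roots]
    exact Multiset.map_congr rfl fun r _ => Classical.choose_spec (hmem r.1 r.2)
  refine ⟨s, Polynomial.map_injective (loc Q).toRingHom (loc_injective Q) ?_⟩
  rw [Polynomial.map_multiset_prod, Multiset.map_map]
  conv_lhs => rw [hsp.eq_prod_roots_of_monic (hp.map _), ← hs, Multiset.map_map]
  congr 1
  refine Multiset.map_congr rfl fun a _ => ?_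
  simp

/-- `N_Q` is Henselian. -/
theorem henselianRing_NQ : HenselianRing (NQ Q) (IsLocalRing.maximalIdeal (NQ Q)) where
  jac := IsLocalRing.maximalIdeal_le_jacobson ⊥
  is_henselian p hp a₀ h₀ _ := by
    obtain ⟨s, rfl⟩ := exists_roots Q hp
    rw [Polynomial.eval_multiset_prod, Multiset.map_map] at h₀
    have hP : (IsLocalRing.maximalIdeal (NQ Q)).IsPrime := inferInstance
    obtain ⟨_, hmem, hm⟩ : ∃ t ∈ s.map ((Polynomial.eval a₀) ∘ fun a => X - C a),
        t ∈ IsLocalRing.maximalIdeal (NQ Q) := (hP.multiset_prod_mem_iff_exists_mem _).mp h₀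
    obtain ⟨a, ha, rfl⟩ := Multiset.mem_map.mp hmem
    refine ⟨a, ?_, ?_⟩
    · rw [Polynomial.IsRoot.def, Polynomial.eval_multiset_prod, Multiset.map_map]
      exact Multiset.prod_eq_zero (Multiset.mem_map.mpr ⟨a, ha, by simp⟩)
    · have : a - a₀ = -(Polynomial.eval a₀ (X - C a)) := by simp
      rw [this]
      exact neg_mem hm

/-- The residue field of `N_Q` is algebraically closed. -/
theorem isAlgClosed_residue : IsAlgClosed (IsLocalRing.ResidueField (NQ Q)) := by
  refine IsAlgClosed.of_exists_root _ fun p hp hirr => ?_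
  obtain ⟨q, hq, -, hqm⟩ := Polynomial.lifts_and_natDegree_eq_and_monic
    ((Polynomial.mem_lifts p).mpr (Polynomial.map_surjective _ IsLocalRing.residue_surjective p)) hp
  obtain ⟨s, rfl⟩ := exists_roots Q hqm
  rcases s.empty_or_exists_mem with h | ⟨a, ha⟩
  · exfalso
    rw [h] at hq
    simp at hq
    exact hirr.not_isUnit (hq ▸ isUnit_one)
  · refine ⟨IsLocalRing.residue _ a, ?_⟩
    rw [← Polynomial.IsRoot.def, ← hq]
    exact Polynomial.IsRoot.map (Polynomial.IsRoot.def.mpr (by
      rw [Polynomial.eval_multiset_prod, Multiset.map_map]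
      exact Multiset.prod_eq_zero (Multiset.mem_map.mpr ⟨a, ha, by simp⟩)))

section Etale

variable (E : Type u) [CommRing E] [Algebra S E] [Algebra.Etale S E]

omit [IsAlgClosed Ω] in
/-- Two maps from an unramified algebra to a local ring with the same reduction agree. -/
theorem eq_of_residue_eq {V : Type u} [CommRing V] [IsLocalRing V] [Algebra S V] (φ ψ : E →ₐ[S] V)
    (h : (IsLocalRing.residue V).comp φ.toRingHom = (IsLocalRing.residue V).comp ψ.toRingHom) :
    φ = ψ := by
  set p := Algebra.TensorProduct.productMap φ ψ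
  have hu : IsUnit (p (Algebra.FormallyUnramified.elem S E)) := by
    refine (isUnit_map_iff (IsLocalRing.residue V) _).mp ?_
    have hrp : (IsLocalRing.residue V).comp p.toRingHom =
        ((IsLocalRing.residue V).comp φ.toRingHom).comp (Algebra.TensorProduct.lmul' S).toRingHom := by
      refine RingHom.ext fun z => ?_
      induction z using TensorProduct.induction_on with
      | zero => simp
      | add a b ha hb => simp only [map_add, ha, hb]
      | tmul x y =>
        have hy := RingHom.congr_fun h y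
        simp only [RingHom.comp_apply, AlgHom.toRingHom_eq_coe, RingHom.coe_coe] at hy
        simp [p, hy]
    have := RingHom.congr_fun hrp (Algebra.FormallyUnramified.elem S E)
    simp only [RingHom.comp_apply, AlgHom.toRingHom_eq_coe, RingHom.coe_coe] at this
    rw [this, Algebra.FormallyUnramified.lmul_elem, map_one, map_one]
    exact isUnit_one
  refine AlgHom.ext fun x => hu.mul_right_cancel ?_
  have := congrArg p (Algebra.FormallyUnramified.one_tmul_mul_elem (R := S) x)
  simp only [map_mul, p, Algebra.TensorProduct.productMap_apply_tmul, map_one, one_mul, mul_one] at this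
  exact this.symm

/-- Points of an étale algebra in the residue field of `N_Q` lift to `N_Q`. -/
theorem exists_lift (σ : E →ₐ[S] IsLocalRing.ResidueField (NQ Q)) :
    ∃ φ : E →ₐ[S] NQ Q,
      (IsScalarTower.toAlgHom S (NQ Q) (IsLocalRing.ResidueField (NQ Q))).comp φ = σ := by
  haveI : HenselianRing (NQ Q)
      (RingHom.ker (IsScalarTower.toAlgHom S (NQ Q) (IsLocalRing.ResidueField (NQ Q)))) := by
    rw [show RingHom.ker (IsScalarTower.toAlgHom S (NQ Q) (IsLocalRing.ResidueField (NQ Q))) =
      IsLocalRing.maximalIdeal (NQ Q) from IsLocalRing.ker_residue]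
    exact henselianRing_NQ Q
  obtain ⟨τ, hτ, -⟩ := Groth.Agent.Lib.Henselian.EtaleHom.existsUnique_algHom_lift_of_surjective
    (IsScalarTower.toAlgHom S (NQ Q) (IsLocalRing.ResidueField (NQ Q))) IsLocalRing.residue_surjective σ
  exact ⟨τ, hτ⟩

/-- A valued point of an étale algebra in the algebraic closure passes through a point of the
integral closure above any of its specializations. -/
theorem exists_through (e : E →ₐ[S] Ω) (v : Ideal E) [v.IsPrime] (hv : RingHom.ker e ≤ v) :
    ∃ (Q : Ideal (NN S Ω)) (_ : Q.IsPrime), e.range ≤ (loc Q).range ∧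
      (v.comap (algebraMap S E)) ≤ Q.comap (algebraMap S (NN S Ω)) := by
  set R : Subring Ω := e.toRingHom.range
  set eR : E →+* R := e.toRingHom.rangeRestrict
  set P : Ideal R := v.map eR
  have hP : P ≠ ⊤ := by
    intro h
    have h1 : (1 : R) ∈ P := h ▸ Submodule.mem_top
    obtain ⟨x, hx, hx1⟩ := (Ideal.mem_map_iff_of_surjective _ e.toRingHom.rangeRestrict_surjective).mp h1
    have hx1' : e x = 1 := congrArg Subtype.val hx1
    have : (1 : E) ∈ v := by
      have := v.sub_mem hx (hv (show x - 1 ∈ RingHom.ker e by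
        rw [RingHom.mem_ker, map_sub, hx1', map_one, sub_self]))
      simpa using this
    exact Ideal.IsPrime.ne_top ‹_› (v.eq_top_of_isUnit_mem this isUnit_one)
  obtain ⟨V, hRV, hPV⟩ := P.image_subset_nonunits_valuationSubring hP
  have hSV : ∀ a : S, algebraMap S Ω a ∈ V := fun a => hRV ⟨algebraMap S E a, e.commutes a⟩
  letI : Algebra S V := ((algebraMap S Ω).codRestrict V.toSubring hSV).toAlgebra
  haveI : IsScalarTower S V Ω := IsScalarTower.of_algebraMap_eq fun _ => rfl
  have hNV : ∀ x : NN S Ω, (x : Ω) ∈ V := fun x => by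
    obtain ⟨y, hy⟩ := IsIntegrallyClosed.isIntegral_iff.mp (IsIntegral.tower_top (A := V) x.2)
    exact hy ▸ y.2
  let iN : NN S Ω →ₐ[S] V :=
    { toRingHom := (integralClosure S Ω).val.toRingHom.codRestrict V.toSubring hNV
      commutes' := fun _ => rfl }
  let Q : Ideal (NN S Ω) := (IsLocalRing.maximalIdeal V).comap iN
  haveI hQ : Q.IsPrime := Ideal.IsPrime.comap _
  let iQ : NQ Q →ₐ[S] V := IsLocalization.liftAlgHom (M := Q.primeCompl) (S := NQ Q) (f := iN)
    fun y => by
      by_contra h
      exact y.2 h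
  haveI : IsLocalHom iQ.toRingHom := ⟨fun z hz => by
    obtain ⟨a, b, rfl⟩ := IsLocalization.exists_mk'_eq Q.primeCompl z
    rw [IsLocalization.AtPrime.isUnit_mk'_iff _ Q]
    intro ha
    have h' := congrArg iQ (IsLocalization.mk'_spec (NQ Q) a b)
    rw [map_mul] at h'
    have hua : IsUnit (iQ (algebraMap _ _ a)) :=
      h' ▸ hz.mul ((IsLocalization.map_units (NQ Q) b).map iQ)
    rw [show iQ (algebraMap _ (NQ Q) a) = iN a from IsLocalization.lift_eq _ a] at hua
    exact ha hua⟩
  have hiQ : ∀ z, (iQ z : Ω) = loc Q z := by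
    intro z
    obtain ⟨a, b, rfl⟩ := IsLocalization.exists_mk'_eq Q.primeCompl z
    have h' := congrArg (fun w => (iQ w : Ω)) (IsLocalization.mk'_spec (NQ Q) a b)
    have h'' := congrArg (loc Q) (IsLocalization.mk'_spec (NQ Q) a b)
    simp only [map_mul, MulMemClass.coe_mul] at h'
    rw [map_mul, loc_algebraMap, loc_algebraMap] at h''
    rw [show ∀ w : NN S Ω, (iQ (algebraMap _ (NQ Q) w) : Ω) = (w : Ω) from fun w =>
      congrArg Subtype.val (IsLocalization.lift_eq _ w)] at h'
    rw [show ∀ w : NN S Ω, (iQ (algebraMap _ (NQ Q) w) : Ω) = (w : Ω) from fun w =>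
      congrArg Subtype.val (IsLocalization.lift_eq _ w)] at h'
    exact (val_primeCompl Q b).mul_right_cancel (h'.trans h''.symm)
  let eV : E →ₐ[S] V :=
    { toRingHom := e.toRingHom.codRestrict V.toSubring fun x => hRV ⟨x, rfl⟩
      commutes' := fun a => Subtype.ext (e.commutes a) }
  -- the point in the residue field
  letI rQV : IsLocalRing.ResidueField (NQ Q) →+* IsLocalRing.ResidueField V :=
    IsLocalRing.ResidueField.map iQ.toRingHom
  letI : Algebra (IsLocalRing.ResidueField (NQ Q)) (IsLocalRing.ResidueField V) := rQV.toAlgebra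
  haveI : IsScalarTower S (IsLocalRing.ResidueField (NQ Q)) (IsLocalRing.ResidueField V) :=
    IsScalarTower.of_algebraMap_eq fun a => by
      show _ = rQV (IsLocalRing.residue _ (algebraMap S (NQ Q) a))
      rw [IsLocalRing.ResidueField.map_residue]
      exact congrArg (IsLocalRing.residue V) (iQ.commutes a).symm
  haveI := isAlgClosed_residue Q
  let r : (IsLocalRing.ResidueField (NQ Q)) ⊗[S] E →ₐ[IsLocalRing.ResidueField (NQ Q)]
      IsLocalRing.ResidueField V :=
    Algebra.TensorProduct.lift (Algebra.ofId _ _)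
      ((IsScalarTower.toAlgHom S V (IsLocalRing.ResidueField V)).comp eV) fun _ _ => .all _ _
  have hr : ∀ x : E, ∃ c, algebraMap (IsLocalRing.ResidueField (NQ Q)) (IsLocalRing.ResidueField V) c =
      IsLocalRing.residue V (eV x) := fun x => by
    obtain ⟨c, hc⟩ := Groth.Agent.Lib.Henselian.EtaleHom.mem_range_of_isSepClosed r (1 ⊗ₜ x)
    refine ⟨c, hc.trans ?_⟩
    simp [r]
  choose σ hσ using hr
  have hinj := (algebraMap (IsLocalRing.ResidueField (NQ Q)) (IsLocalRing.ResidueField V)).injective
  let σ' : E →ₐ[S] IsLocalRing.ResidueField (NQ Q) :=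
    { toFun := σ
      map_one' := hinj (by rw [hσ, map_one, map_one, map_one])
      map_mul' := fun x y => hinj (by rw [hσ, map_mul, map_mul, map_mul, hσ, hσ])
      map_zero' := hinj (by rw [hσ, map_zero, map_zero, map_zero])
      map_add' := fun x y => hinj (by rw [hσ, map_add, map_add, map_add, hσ, hσ])
      commutes' := fun a => hinj (by
        rw [hσ, ← IsScalarTower.algebraMap_apply, eV.commutes]
        rfl) }
  obtain ⟨φ, hφ⟩ := exists_lift Q E σ'
  have heq : iQ.comp φ = eV := by
    refine eq_of_residue_eq E _ _ (RingHom.ext fun x => ?_)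
    show IsLocalRing.residue V (iQ (φ x)) = IsLocalRing.residue V (eV x)
    rw [← hσ x]
    refine (IsLocalRing.ResidueField.map_residue iQ.toRingHom (φ x)).symm.trans ?_
    exact congrArg rQV (AlgHom.congr_fun hφ x)
  refine ⟨Q, hQ, ?_, ?_⟩
  · rintro _ ⟨x, rfl⟩
    exact ⟨φ x, (hiQ (φ x)).symm.trans (congrArg (fun g : E →ₐ[S] V => (g x : Ω)) heq)⟩
  · intro a ha
    rw [Ideal.mem_comap] at ha
    show algebraMap S (NN S Ω) a ∈ Q
    rw [Ideal.mem_comap, AlgHom.commutes]
    have h1 := hPV ⟨eR (algebraMap S E a), Ideal.mem_map_of_mem eR ha, rfl⟩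
    rw [IsLocalRing.mem_maximalIdeal]
    refine (ValuationSubring.coe_mem_nonunits_iff).mp ?_
    have : ((algebraMap S V a : V) : Ω) = R.subtype (eR (algebraMap S E a)) := (e.commutes a).symm
    rw [this]
    exact h1

end Etale

end Groth.Agent.Lib.HensSch.AlgClosure
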