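import Groth.Agent.Lib.HensSch.AlgClosure
import Groth.Agent.Lib.Henselian.Pair
import Mathlib.RingTheory.Flat.FaithfullyFlat.Algebra
import Mathlib.RingTheory.TensorProduct.IncludeLeftSubRight

/-!
# Descent for modules along étale covers of a Henselian pair

`existsUnique_descent`: let `(S, J)` be a Henselian pair, `E` étale over `S` hitting all of `V(J)`
and `s ∈ E ⊗ M` with equal pullbacks to `E ⊗ E` near every prime containing `J`.  Then `s` comes
from a unique element of `M` after inverting `1 + J E`.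
-/

universe u

open TensorProduct

namespace Groth.Agent.Lib.HensSch.Descent

open Groth.Agent.Lib.HensSch.AlgClosure

variable {S : Type u} [CommRing S] (M : Type u) [AddCommGroup M] [Module S M]

/-! ### Killing near a prime -/

/-- `d` vanishes near the prime `w`. -/
def KilledNear {T : Type u} [CommRing T] {N : Type u} [AddCommGroup N] [Module T N] (w : Ideal T)
    (d : N) : Prop :=
  ∃ h ∉ w, h • d = 0

theorem KilledNear.zero {T : Type u} [CommRing T] {N : Type u} [AddCommGroup N] [Module T N]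
    {w : Ideal T} [hw : w.IsPrime] : KilledNear w (0 : N) :=
  ⟨1, fun h => hw.ne_top (w.eq_top_of_isUnit_mem h isUnit_one), smul_zero _⟩

variable {E T T' : Type u} [CommRing E] [Algebra S E] [CommRing T] [Algebra S T] [CommRing T']
  [Algebra S T']

/-- Push an element of `E ⊗ M` forward. -/
noncomputable abbrev push (a : E →ₐ[S] T) : E ⊗[S] M →ₗ[S] T ⊗[S] M := a.toLinearMap.rTensor M

variable {M}

theorem push_push (a : E →ₐ[S] T) (b : T →ₐ[S] T') (x : E ⊗[S] M) :
    push M b (push M a x) = push M (b.comp a) x := by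
  induction x using TensorProduct.induction_on with
  | zero => simp
  | add y z hy hz => simp only [map_add, hy, hz]
  | tmul e m => simp

theorem push_smul (a : E →ₐ[S] T) (r : E) (x : E ⊗[S] M) :
    push M a (r • x) = a r • push M a x := by
  induction x using TensorProduct.induction_on with
  | zero => simp
  | add y z hy hz => simp only [smul_add, map_add, hy, hz]
  | tmul e m => simp [TensorProduct.smul_tmul']

theorem KilledNear.push {a : E →ₐ[S] T} {w : Ideal T} {x : E ⊗[S] M}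
    (h : KilledNear (w.comap a) x) : KilledNear w (Descent.push M a x) := by
  obtain ⟨r, hr, hx⟩ := h
  exact ⟨a r, hr, by rw [← push_smul, hx, map_zero]⟩

/-- Vanishing near a prime descends along flat maps. -/
theorem KilledNear.of_flat [Algebra E T] [IsScalarTower S E T] [Module.Flat E T] {w : Ideal T}
    {x : E ⊗[S] M} (h : KilledNear w (Descent.push M (IsScalarTower.toAlgHom S E T) x)) :
    KilledNear (w.comap (algebraMap E T)) x := by
  let f : E →ₗ[E] E ⊗[S] M := LinearMap.toSpanSingleton E _ x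
  by_contra hne
  have hle : LinearMap.ker f ≤ w.comap (algebraMap E T) := fun r hr => by
    by_contra hrw
    exact hne ⟨r, hrw, hr⟩
  obtain ⟨r, hr, hx⟩ := h
  have hf : Function.Exact (LinearMap.ker f).subtype f := f.exact_subtype_ker_map
  have hex := Module.Flat.lTensor_exact T hf
  have h0 : f.lTensor T (r ⊗ₜ[E] (1 : E)) = 0 := by
    refine (TensorProduct.AlgebraTensorModule.cancelBaseChange S E T T M).injective ?_
    rw [map_zero, ← hx]
    rw [LinearMap.lTensor_tmul, LinearMap.toSpanSingleton_apply, one_smul]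
    clear hx hex hf hle hne
    induction x using TensorProduct.induction_on with
    | zero => simp
    | add y z hy hz => simp only [TensorProduct.tmul_add, map_add, smul_add, hy, hz]
    | tmul e m => simp [TensorProduct.smul_tmul', Algebra.smul_def, mul_comm]
  obtain ⟨t, ht⟩ := (hex _).mp h0
  have : r ∈ w := by
    have h1 := congrArg (TensorProduct.rid E T) ht
    rw [TensorProduct.rid_tmul, one_smul] at h1
    rw [← h1]
    clear h1 ht
    induction t using TensorProduct.induction_on with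
    | zero => simp
    | add y z hy hz => simp only [map_add]; exact add_mem hy hz
    | tmul c k =>
      simp only [LinearMap.lTensor_tmul, Submodule.coe_subtype, TensorProduct.rid_tmul, Algebra.smul_def]
      exact w.mul_mem_right _ (hle k.2)
  exact hr this

/-- The difference of two pullbacks. -/
noncomputable abbrev dd (a b : E →ₐ[S] T) (s : E ⊗[S] M) : T ⊗[S] M := push M a s - push M b s

theorem push_dd (a b : E →ₐ[S] T) (c : T →ₐ[S] T') (s : E ⊗[S] M) :
    push M c (dd a b s) = dd (c.comp a) (c.comp b) s := by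
  rw [dd, map_sub, push_push, push_push]

variable (s : E ⊗[S] M)

/-- The universal difference. -/
noncomputable abbrev d0 : (E ⊗[S] E) ⊗[S] M :=
  dd (Algebra.TensorProduct.includeLeft (R := S) (S := S) (A := E) (B := E))
    Algebra.TensorProduct.includeRight s

variable {Ω : Type u} [Field Ω] [Algebra S Ω]

/-- The values at two points agree, as germs. -/
def Rel (e e' : E →ₐ[S] Ω) : Prop :=
  KilledNear (RingHom.ker (Algebra.TensorProduct.productMap e e')) (d0 s)

theorem comp_productMap {U : Type u} [CommRing U] [Algebra S U] (g : T →ₐ[S] U) (a b : E →ₐ[S] T) :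
    g.comp (Algebra.TensorProduct.productMap a b) =
      Algebra.TensorProduct.productMap (g.comp a) (g.comp b) :=
  Algebra.TensorProduct.ext (AlgHom.ext fun x => by simp) (AlgHom.ext fun x => by simp)

theorem rel_trans [Algebra.Etale S E] {e e' e'' : E →ₐ[S] Ω} (h : Rel s e e') (h' : Rel s e' e'') :
    Rel s e e'' := by
  let P := (E ⊗[S] E) ⊗[S] E
  let ι : E ⊗[S] E →ₐ[S] P := Algebra.TensorProduct.includeLeft
  let a : E →ₐ[S] P := ι.comp Algebra.TensorProduct.includeLeft
  let b : E →ₐ[S] P := Algebra.TensorProduct.includeRight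
  let c : E →ₐ[S] P := ι.comp Algebra.TensorProduct.includeRight
  -- `(a, c)` is the flat inclusion, `b` is the middle point
  let χ : P →ₐ[S] Ω :=
    Algebra.TensorProduct.productMap (Algebra.TensorProduct.productMap e e'') e'
  have hχa : χ.comp a = e := AlgHom.ext fun x => by
    show Algebra.TensorProduct.productMap (Algebra.TensorProduct.productMap e e'') e'
      ((x ⊗ₜ[S] (1 : E)) ⊗ₜ[S] (1 : E)) = e x
    simp
  have hχb : χ.comp b = e' := AlgHom.ext fun x => by
    show Algebra.TensorProduct.productMap (Algebra.TensorProduct.productMap e e'') e'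
      (((1 : E) ⊗ₜ[S] (1 : E)) ⊗ₜ[S] x) = e' x
    simp
  have hχc : χ.comp c = e'' := AlgHom.ext fun x => by
    show Algebra.TensorProduct.productMap (Algebra.TensorProduct.productMap e e'') e'
      (((1 : E) ⊗ₜ[S] x) ⊗ₜ[S] (1 : E)) = e'' x
    simp
  have key : ∀ (p q : E →ₐ[S] P) (u v : E →ₐ[S] Ω), χ.comp p = u → χ.comp q = v → Rel s u v →
      KilledNear (RingHom.ker χ) (dd p q s) := by
    intro p q u v hp hq hr
    subst hp hq
    have h1 : dd p q s = push M (Algebra.TensorProduct.productMap p q) (d0 s) := by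
      rw [push_dd]
      congr 2
      · congr 1
        exact AlgHom.ext fun x => by simp
      · congr 1
        exact AlgHom.ext fun x => by simp
    rw [h1]
    refine KilledNear.push ?_
    rw [show (RingHom.ker χ).comap (Algebra.TensorProduct.productMap p q) =
      RingHom.ker (Algebra.TensorProduct.productMap (χ.comp p) (χ.comp q)) from by
        rw [← comp_productMap]; rfl]
    exact hr
  obtain ⟨x, hx, hx0⟩ := key a b e e' hχa hχb h
  obtain ⟨y, hy, hy0⟩ := key b c e' e'' hχb hχc h'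
  haveI : (RingHom.ker χ).IsPrime := RingHom.ker_isPrime _
  have h3 : KilledNear (RingHom.ker χ) (dd a c s) := by
    refine ⟨x * y, fun hxy => (Ideal.IsPrime.mem_or_mem ‹_› hxy).elim hx hy, ?_⟩
    have : dd a c s = dd a b s + dd b c s := by simp only [dd]; abel
    rw [this, smul_add, mul_smul x y (dd b c s), hy0, smul_zero, add_zero, mul_comm, mul_smul, hx0,
      smul_zero]
  haveI : Module.Flat (E ⊗[S] E) P := Module.Flat.baseChange S (E ⊗[S] E) E
  have h4 : dd a c s = push M (IsScalarTower.toAlgHom S (E ⊗[S] E) P) (d0 s) := by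
    rw [push_dd]
    rfl
  rw [h4] at h3
  have h5 := KilledNear.of_flat h3
  have h6 : (RingHom.ker χ).comap (algebraMap (E ⊗[S] E) P) =
      RingHom.ker (Algebra.TensorProduct.productMap e e'') := by
    ext z
    rw [Ideal.mem_comap, RingHom.mem_ker, RingHom.mem_ker]
    show Algebra.TensorProduct.productMap (Algebra.TensorProduct.productMap e e'') e'
      (z ⊗ₜ[S] (1 : E)) = 0 ↔ _
    simp
  rw [h6] at h5
  exact h5

variable [IsAlgClosed Ω] [Algebra.Etale S E] (J : Ideal S) [HenselianRing S J]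
  (hcov : ∀ q : Ideal S, q.IsPrime → J ≤ q → ∃ P : Ideal E, P.IsPrime ∧ P.comap (algebraMap S E) = q)
  (hd : ∀ w : Ideal (E ⊗[S] E), w.IsPrime → J.map (algebraMap S (E ⊗[S] E)) ≤ w → KilledNear w (d0 s))

/-- `e` passes through `Q`. -/
abbrev Through (e : E →ₐ[S] Ω) (Q : Ideal (NN S Ω)) [Q.IsPrime] : Prop :=
  e.range ≤ (loc Q).range

omit [HenselianRing S J] in
include hd in
theorem rel_of_through {e e' : E →ₐ[S] Ω} (Q : Ideal (NN S Ω)) [Q.IsPrime]
    (hQ : J.map (algebraMap S (NN S Ω)) ≤ Q) (h : Through e Q) (h' : Through e' Q) : Rel s e e' := by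
  let eqv := AlgEquiv.ofInjective (loc Q) (loc_injective Q)
  let φ : E →ₐ[S] NQ Q := eqv.symm.toAlgHom.comp (e.codRestrict _ fun x => h ⟨x, rfl⟩)
  let φ' : E →ₐ[S] NQ Q := eqv.symm.toAlgHom.comp (e'.codRestrict _ fun x => h' ⟨x, rfl⟩)
  have hφ : (loc Q).comp φ = e := AlgHom.ext fun x =>
    congrArg Subtype.val (eqv.apply_symm_apply ⟨e x, h ⟨x, rfl⟩⟩)
  have hφ' : (loc Q).comp φ' = e' := AlgHom.ext fun x =>
    congrArg Subtype.val (eqv.apply_symm_apply ⟨e' x, h' ⟨x, rfl⟩⟩)
  let p := Algebra.TensorProduct.productMap φ φ'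
  obtain ⟨r, hr, hr0⟩ := hd ((IsLocalRing.maximalIdeal (NQ Q)).comap p) inferInstance (by
    rw [Ideal.map_le_iff_le_comap]
    intro a ha
    rw [Ideal.mem_comap, Ideal.mem_comap, AlgHom.commutes,
      IsScalarTower.algebraMap_apply S (NN S Ω) (NQ Q)]
    exact (IsLocalization.AtPrime.to_map_mem_maximal_iff (NQ Q) Q _).mpr
      (hQ (Ideal.mem_map_of_mem _ ha)))
  refine ⟨r, fun h0 => hr ?_, hr0⟩
  have : loc Q (p r) = 0 := by
    rw [← hφ, ← hφ', ← comp_productMap] at h0
    exact h0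
  rw [Ideal.mem_comap, (map_eq_zero_iff _ (loc_injective Q)).mp this]
  exact zero_mem _

omit [HenselianRing S J] [IsAlgClosed Ω] in
theorem through_isOpen (e : E →ₐ[S] Ω) (q : PrimeSpectrum (NN S Ω)) (h : Through e q.asIdeal) :
    ∃ a : NN S Ω, a ∉ q.asIdeal ∧ ∀ q' : PrimeSpectrum (NN S Ω), a ∉ q'.asIdeal → Through e q'.asIdeal := by
  classical
  obtain ⟨G, hG⟩ := (Algebra.FiniteType.out : (⊤ : Subalgebra S E).FG)
  choose a b ha hab using fun x : E => exists_mul_mem q.asIdeal (h ⟨x, rfl⟩)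
  refine ⟨∏ x ∈ G, a x, fun hp => ?_, fun q' hq' => ?_⟩
  · obtain ⟨x, -, hx⟩ := (Ideal.IsPrime.prod_mem_iff).mp hp
    exact ha x hx
  · rintro _ ⟨x, rfl⟩
    have hle : Algebra.adjoin S (G : Set E) ≤ (loc q'.asIdeal).range.comap e := by
      refine Algebra.adjoin_le fun y hy => ?_
      refine mem_range_loc q'.asIdeal (a y) (b y) (fun hay => hq' ?_) (hab y)
      exact Ideal.IsPrime.prod_mem_iff.mpr ⟨y, hy, hay⟩
    rw [hG] at hle
    exact hle (Algebra.mem_top (x := x))

include hcov in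
omit [HenselianRing S J] in
theorem exists_through_of_le (q : PrimeSpectrum (NN S Ω))
    (hq : J.map (algebraMap S (NN S Ω)) ≤ q.asIdeal) : ∃ e : E →ₐ[S] Ω, Through e q.asIdeal := by
  set q₀ := q.asIdeal.comap (algebraMap S (NN S Ω))
  obtain ⟨P, hP, hPq⟩ := hcov q₀ inferInstance (Ideal.map_le_iff_le_comap.mp hq)
  haveI : P.LiesOver q₀ := ⟨hPq.symm⟩
  haveI := isAlgClosed_residue (Ω := Ω) q.asIdeal
  haveI : (IsLocalRing.maximalIdeal (NQ q.asIdeal)).LiesOver q₀ := ⟨by
    show _ = (IsLocalRing.maximalIdeal (NQ q.asIdeal)).comap (algebraMap S (NQ q.asIdeal))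
    rw [IsScalarTower.algebraMap_eq S (NN S Ω) (NQ q.asIdeal), ← Ideal.comap_comap]
    exact (congrArg (Ideal.comap (algebraMap S (NN S Ω)))
      (IsLocalization.AtPrime.under_maximalIdeal (NQ q.asIdeal) q.asIdeal)).symm⟩
  let κ := IsLocalRing.ResidueField (NQ q.asIdeal)
  let f : q₀.ResidueField →+* κ :=
    Ideal.ResidueField.lift q₀ (algebraMap S κ)
      (fun a ha => by
        rw [RingHom.mem_ker, IsScalarTower.algebraMap_apply S (NQ q.asIdeal) κ]
        refine (IsLocalRing.residue_eq_zero_iff _).mpr ?_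
        rw [IsScalarTower.algebraMap_apply S (NN S Ω) (NQ q.asIdeal)]
        exact (IsLocalization.AtPrime.to_map_mem_maximal_iff (NQ q.asIdeal) q.asIdeal _).mpr ha)
      (fun a ha => by
        show IsUnit (algebraMap S κ a)
        rw [IsScalarTower.algebraMap_apply S (NQ q.asIdeal) κ, IsScalarTower.algebraMap_apply S (NN S Ω) (NQ q.asIdeal)]
        exact (IsLocalization.map_units (NQ q.asIdeal) (⟨_, ha⟩ : q.asIdeal.primeCompl)).map _)
  letI : Algebra q₀.ResidueField κ := f.toAlgebra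
  haveI : IsScalarTower S q₀.ResidueField κ := IsScalarTower.of_algebraMap_eq fun a =>
    (Ideal.ResidueField.lift_algebraMap q₀ _ _ _ a).symm
  letI := Localization.AtPrime.algebraOfLiesOver q₀ P
  haveI : Module.Finite q₀.ResidueField P.ResidueField := inferInstance
  let σ₀ : P.ResidueField →ₐ[q₀.ResidueField] κ := IsAlgClosed.lift
  let σ : E →ₐ[S] κ :=
    (σ₀.restrictScalars S).comp (IsScalarTower.toAlgHom S E P.ResidueField)
  obtain ⟨φ, -⟩ := exists_lift q.asIdeal E σ
  refine ⟨(loc q.asIdeal).comp φ, ?_⟩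
  rintro _ ⟨x, rfl⟩
  exact ⟨φ x, rfl⟩

include hcov hd in
/-- Any two points specializing into `V(J)` agree. -/
theorem rel_of_points (e₁ e₂ : E →ₐ[S] Ω) {v₁ v₂ : Ideal E} [v₁.IsPrime] [v₂.IsPrime]
    (h₁ : RingHom.ker e₁ ≤ v₁) (hJ₁ : J.map (algebraMap S E) ≤ v₁) (h₂ : RingHom.ker e₂ ≤ v₂)
    (hJ₂ : J.map (algebraMap S E) ≤ v₂) : Rel s e₁ e₂ := by
  classical
  set K := J.map (algebraMap S (NN S Ω))
  obtain ⟨Q₁, hQ₁, ht₁, hv₁⟩ := exists_through E e₁ v₁ h₁
  obtain ⟨Q₂, hQ₂, ht₂, hv₂⟩ := exists_through E e₂ v₂ h₂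
  have hK₁ : K ≤ Q₁ := Ideal.map_le_iff_le_comap.mpr ((Ideal.map_le_iff_le_comap.mp hJ₁).trans hv₁)
  have hK₂ : K ≤ Q₂ := Ideal.map_le_iff_le_comap.mpr ((Ideal.map_le_iff_le_comap.mp hJ₂).trans hv₂)
  -- `N / J N` has connected spectrum
  haveI : Algebra.IsIntegral S (NN S Ω) := inferInstance
  let π := Ideal.Quotient.mk K
  let c := PrimeSpectrum.comap π
  have hKc : ∀ x : PrimeSpectrum (NN S Ω ⧸ K), K ≤ (c x).asIdeal := fun x a ha => by
    show π a ∈ x.asIdeal
    rw [Ideal.Quotient.eq_zero_iff_mem.mpr ha]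
    exact zero_mem _
  let U : Set (PrimeSpectrum (NN S Ω ⧸ K)) :=
    {x | ∃ e : E →ₐ[S] Ω, Through e (c x).asIdeal ∧ Rel s e₁ e}
  have hUc : ∀ x, x ∉ U ↔ ∃ e : E →ₐ[S] Ω, Through e (c x).asIdeal ∧ ¬ Rel s e₁ e := by
    intro x
    refine ⟨fun hx => ?_, ?_⟩
    · obtain ⟨e, he⟩ := exists_through_of_le J hcov (c x) (hKc x)
      exact ⟨e, he, fun hr => hx ⟨e, he, hr⟩⟩
    · rintro ⟨e, he, hr⟩ ⟨e', he', hr'⟩
      exact hr (rel_trans s hr' (rel_of_through s J hd _ (hKc x) he' he))
  have hopen : ∀ P : (E →ₐ[S] Ω) → Prop,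
      IsOpen {x | ∃ e : E →ₐ[S] Ω, Through e (c x).asIdeal ∧ P e} := fun P => by
    refine isOpen_iff_forall_mem_open.mpr fun x ⟨e, he, hP⟩ => ?_
    obtain ⟨a, ha, h⟩ := through_isOpen e (c x) he
    exact ⟨c ⁻¹' (PrimeSpectrum.basicOpen a : Set (PrimeSpectrum (NN S Ω))),
      fun y hy => ⟨e, h (c y) hy, hP⟩,
      (PrimeSpectrum.basicOpen a).2.preimage (PrimeSpectrum.continuous_comap π), ha⟩
  have hU : IsClopen U := by
    refine ⟨?_, hopen _⟩
    rw [← isOpen_compl_iff, show Uᶜ = {x | ∃ e : E →ₐ[S] Ω, Through e (c x).asIdeal ∧ ¬ Rel s e₁ e}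
      from Set.ext fun x => hUc x]
    exact hopen _
  obtain ⟨ε, hε, hεU⟩ := PrimeSpectrum.exists_idempotent_basicOpen_eq_of_isClopen hU
  obtain ⟨η, hη, rfl⟩ :=
    (Groth.Agent.Lib.Henselian.Pair.idempotents_bijOn J (NN S Ω)).surjOn hε
  -- `x₁ ∈ U`, so the idempotent is `1`
  have hlift : ∀ (Q : Ideal (NN S Ω)) [Q.IsPrime], K ≤ Q →
      ∃ x : PrimeSpectrum (NN S Ω ⧸ K), (c x).asIdeal = Q := fun Q _ hQ => by
    have : (⟨Q, inferInstance⟩ : PrimeSpectrum (NN S Ω)) ∈ Set.range c := by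
      show _ ∈ Set.range (PrimeSpectrum.comap π)
      rw [range_comap_of_surjective _ _ Ideal.Quotient.mk_surjective, Ideal.mk_ker]
      exact hQ
    obtain ⟨x, hx⟩ := this
    exact ⟨x, congrArg PrimeSpectrum.asIdeal hx⟩
  obtain ⟨x₁, hx₁⟩ := hlift Q₁ hK₁
  obtain ⟨x₂, hx₂⟩ := hlift Q₂ hK₂
  have hT₁ : Through e₁ (c x₁).asIdeal := by subst hx₁; exact ht₁
  have hT₂ : Through e₂ (c x₂).asIdeal := by subst hx₂; exact ht₂
  have hx₁U : x₁ ∈ U := ⟨e₁, hT₁, rel_of_through s J hd _ (hKc x₁) hT₁ hT₁⟩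
  have hx₂U : x₂ ∈ U := by
    rw [hεU] at hx₁U ⊢
    rcases IsIdempotentElem.iff_eq_zero_or_one.mp hη with h | h
    · rw [h, map_zero, PrimeSpectrum.basicOpen_zero] at hx₁U
      exact absurd hx₁U (fun h => h)
    · rw [h, map_one, PrimeSpectrum.basicOpen_one]
      trivial
  obtain ⟨e, he, hr⟩ := hx₂U
  exact rel_trans s hr (rel_of_through s J hd _ (hKc x₂) he hT₂)

/-! ### Descent -/

/-- The submonoid `1 + J E`. -/
def oneAdd (E : Type u) [CommRing E] [Algebra S E] (J : Ideal S) : Submonoid E where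
  carrier := {x | x - 1 ∈ J.map (algebraMap S E)}
  one_mem' := by simp
  mul_mem' {x y} hx hy := by
    show x * y - 1 ∈ J.map (algebraMap S E)
    have : x * y - 1 = (x - 1) * y + (y - 1) := by ring
    rw [this]
    exact add_mem (Ideal.mul_mem_right _ _ hx) hy

/-- `E` with `1 + J E` inverted. -/
abbrev Zar (E : Type u) [CommRing E] [Algebra S E] (J : Ideal S) : Type u :=
  Localization (oneAdd E J)

omit [HenselianRing S J] [Algebra.Etale S E] in
theorem exists_prime_over_of_disjoint {v : Ideal E}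
    (h : Disjoint (oneAdd E J : Set E) v) :
    ∃ P : Ideal E, P.IsPrime ∧ v ≤ P ∧ J.map (algebraMap S E) ≤ P := by
  have : v ⊔ J.map (algebraMap S E) ≠ ⊤ := by
    intro htop
    obtain ⟨a, ha, b, hb, hab⟩ := Submodule.mem_sup.mp (htop ▸ Submodule.mem_top : (1 : E) ∈ v ⊔ J.map (algebraMap S E))
    refine Set.disjoint_left.mp h (show a - 1 ∈ J.map (algebraMap S E) from ?_) ha
    rw [← hab, sub_add_eq_sub_sub, sub_self, zero_sub]
    exact neg_mem hb
  obtain ⟨P, hP, hle⟩ := Ideal.exists_le_maximal _ this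
  exact ⟨P, hP.isPrime, le_sup_left.trans hle, le_sup_right.trans hle⟩

include hcov in
theorem faithfullyFlat_zar : Module.FaithfullyFlat S (Zar E J) := by
  haveI : Module.Flat E (Zar E J) := IsLocalization.flat (Zar E J) (oneAdd E J)
  haveI : Module.Flat S (Zar E J) := Module.Flat.trans S E (Zar E J)
  refine Module.FaithfullyFlat.of_comap_surjective ?_
  suffices H : ∀ m : PrimeSpectrum S, m.asIdeal.IsMaximal → m ∈ Set.range (PrimeSpectrum.comap (algebraMap S (Zar E J))) by
    intro p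
    obtain ⟨m, hm, hpm⟩ := Ideal.exists_le_maximal p.asIdeal p.2.ne_top
    obtain ⟨Q, hQ⟩ := H ⟨m, hm.isPrime⟩ hm
    haveI : Q.asIdeal.LiesOver m := ⟨(congrArg PrimeSpectrum.asIdeal hQ).symm⟩
    haveI := hm.isPrime
    obtain ⟨P, -, hP, hPp⟩ := Ideal.exists_ideal_le_liesOver_of_le (q := m) (p := p.asIdeal) Q.asIdeal hpm
    exact ⟨⟨P, hP⟩, PrimeSpectrum.ext hPp.over.symm⟩
  intro m hm
  have hJm : J ≤ m.asIdeal := le_trans HenselianRing.jac (sInf_le ⟨bot_le, hm⟩)
  obtain ⟨P, hP, hPm⟩ := hcov m.asIdeal m.2 hJm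
  have hJP : J.map (algebraMap S E) ≤ P := Ideal.map_le_iff_le_comap.mpr (hPm ▸ hJm)
  have hdis : Disjoint (oneAdd E J : Set E) P := Set.disjoint_left.mpr fun x hx hxP => by
    refine hP.ne_top (P.eq_top_of_isUnit_mem ?_ isUnit_one)
    have := P.sub_mem hxP (hJP hx)
    simpa using this
  refine ⟨⟨P.map (algebraMap E (Zar E J)), IsLocalization.isPrime_of_isPrime_disjoint _ _ P hP hdis⟩,
    PrimeSpectrum.ext ?_⟩
  show Ideal.comap (algebraMap S (Zar E J)) (P.map (algebraMap E (Zar E J))) = m.asIdeal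
  rw [IsScalarTower.algebraMap_eq S E (Zar E J), ← Ideal.comap_comap]
  exact (congrArg (Ideal.comap (algebraMap S E))
    (IsLocalization.comap_map_of_isPrime_disjoint (oneAdd E J) (Zar E J) hP hdis)).trans hPm

include hcov hd in
theorem push_dd_zar_eq_zero :
    dd (Algebra.TensorProduct.includeLeft (R := S) (S := S) (A := Zar E J) (B := Zar E J))
      Algebra.TensorProduct.includeRight (push M (IsScalarTower.toAlgHom S E (Zar E J)) s) = 0 := by
  let Z := Zar E J
  let l := IsScalarTower.toAlgHom S E Z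
  let iL : Z →ₐ[S] Z ⊗[S] Z := Algebra.TensorProduct.includeLeft
  let iR : Z →ₐ[S] Z ⊗[S] Z := Algebra.TensorProduct.includeRight
  let g : E ⊗[S] E →ₐ[S] Z ⊗[S] Z := Algebra.TensorProduct.map l l
  set d := dd iL iR (push M l s)
  show d = 0
  have hd' : d = push M g (d0 s) := by
    rw [push_dd]
    simp only [d, dd, push_push]
    congr 2
    · congr 1
      exact AlgHom.ext fun x => by simp [iL, g, l]
    · congr 1
      exact AlgHom.ext fun x => by simp [iR, g, l]
  let A : Ideal (Z ⊗[S] Z) := LinearMap.ker (LinearMap.toSpanSingleton (Z ⊗[S] Z) _ d)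
  suffices A = ⊤ by
    have h1 : (1 : Z ⊗[S] Z) ∈ A := this ▸ Submodule.mem_top
    simpa [A] using h1
  by_contra hne
  obtain ⟨m, hm, hAm⟩ := Ideal.exists_le_maximal A hne
  haveI := hm.isPrime
  set w := m.comap g
  let Ω' := AlgebraicClosure w.ResidueField
  let e : E ⊗[S] E →ₐ[S] Ω' := IsScalarTower.toAlgHom S _ Ω'
  let e₁ := e.comp Algebra.TensorProduct.includeLeft
  let e₂ := e.comp Algebra.TensorProduct.includeRight
  have he : RingHom.ker (Algebra.TensorProduct.productMap e₁ e₂) = w := by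
    have : Algebra.TensorProduct.productMap e₁ e₂ = e :=
      Algebra.TensorProduct.ext (AlgHom.ext fun x => by simp [e₁])
        (AlgHom.ext fun x => by simp [e₂])
    rw [this]
    ext z
    rw [RingHom.mem_ker]
    show algebraMap _ Ω' z = 0 ↔ _
    rw [IsScalarTower.algebraMap_apply (E ⊗[S] E) w.ResidueField Ω', map_eq_zero,
      Ideal.algebraMap_residueField_eq_zero]
  have hpt : ∀ (i : E →ₐ[S] E ⊗[S] E) (j : Z →ₐ[S] Z ⊗[S] Z), g.comp i = j.comp l →
      ∃ v : Ideal E, v.IsPrime ∧ RingHom.ker (e.comp i) ≤ v ∧ J.map (algebraMap S E) ≤ v := by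
    intro i j hij
    refine exists_prime_over_of_disjoint J (Set.disjoint_left.mpr fun x hx hxk => ?_)
    have h1 : i x ∈ w := by
      rw [SetLike.mem_coe, RingHom.mem_ker, AlgHom.comp_apply] at hxk
      rw [← he]
      have : Algebra.TensorProduct.productMap e₁ e₂ = e :=
        Algebra.TensorProduct.ext (AlgHom.ext fun x => by simp [e₁])
          (AlgHom.ext fun x => by simp [e₂])
      rw [this, RingHom.mem_ker]
      exact hxk
    have h2 : IsUnit (g (i x)) := by
      rw [show g (i x) = j (l x) from AlgHom.congr_fun hij x]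
      exact (IsLocalization.map_units Z (⟨x, hx⟩ : oneAdd E J)).map j
    exact hm.ne_top (m.eq_top_of_isUnit_mem h1 h2)
  obtain ⟨v₁, _, hk₁, hJ₁⟩ := hpt Algebra.TensorProduct.includeLeft iL (AlgHom.ext fun x => by simp [iL, g, l])
  obtain ⟨v₂, _, hk₂, hJ₂⟩ := hpt Algebra.TensorProduct.includeRight iR (AlgHom.ext fun x => by simp [iR, g, l])
  obtain ⟨r, hr, hr0⟩ := rel_of_points s J hcov hd e₁ e₂ hk₁ hJ₁ hk₂ hJ₂
  rw [he] at hr
  refine hr (hAm (show g r ∈ A from ?_))
  show g r • d = 0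
  rw [hd', ← push_smul, hr0, map_zero]

include hcov hd in
/-- Descent along an étale cover of a Henselian pair. -/
theorem existsUnique_descent :
    ∃! m : M, (1 : Zar E J) ⊗ₜ[S] m = push M (IsScalarTower.toAlgHom S E (Zar E J)) s := by
  haveI := faithfullyFlat_zar (E := E) J hcov
  set Z := Zar E J
  set t := push M (IsScalarTower.toAlgHom S E Z) s
  have hinj := Module.FaithfullyFlat.tensorProduct_mk_injective (A := S) (B := Z)
  let ι₁ : M →ₗ[S] Z ⊗[S] M := TensorProduct.mk S Z M 1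
  suffices h : t ∈ LinearMap.range ι₁ by
    obtain ⟨m, hm⟩ := h
    exact ⟨m, hm, fun m' hm' => hinj M (hm'.trans hm.symm)⟩
  rw [← Submodule.Quotient.mk_eq_zero]
  refine hinj _ (Eq.trans ?_ (map_zero _).symm)
  let q := (LinearMap.range ι₁).mkQ
  let Φ : (Z ⊗[S] Z) ⊗[S] M →ₗ[S] Z ⊗[S] ((Z ⊗[S] M) ⧸ LinearMap.range ι₁) :=
    (q.lTensor Z).comp (TensorProduct.assoc S Z Z M).toLinearMap
  have h0 := push_dd_zar_eq_zero s J hcov hd
  have h1 : ∀ x : Z ⊗[S] M,
      Φ (push M Algebra.TensorProduct.includeRight x) = (1 : Z) ⊗ₜ[S] q x := by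
    intro x
    induction x using TensorProduct.induction_on with
    | zero => simp
    | add y z hy hz => simp only [map_add, hy, hz, TensorProduct.tmul_add]
    | tmul e m => simp [Φ]
  have h2 : ∀ x : Z ⊗[S] M,
      Φ (push M (Algebra.TensorProduct.includeLeft (R := S) (S := S)) x) = 0 := by
    intro x
    induction x using TensorProduct.induction_on with
    | zero => simp
    | add y z hy hz => simp only [map_add, hy, hz, add_zero]
    | tmul e m =>
      have : q ((1 : Z) ⊗ₜ[S] m) = 0 := (Submodule.Quotient.mk_eq_zero _).mpr ⟨m, rfl⟩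
      simp [Φ, this]
  show (1 : Z) ⊗ₜ[S] q t = 0
  rw [← h1, ← sub_eq_zero.mp h0, h2]

end Groth.Agent.Lib.HensSch.Descent
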