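import Groth.Agent.Lib.HensSch.Sections
import Groth.Agent.Lib.Henselian.PairUP
import Mathlib.RingTheory.RingHom.Flat
import Mathlib.Topology.Sheaves.SheafCondition.Sites

/-!
# The universal property of the Henselization of a scheme along a closed subset
-/

universe u

open CategoryTheory Opposite TopologicalSpace Topology AlgebraicGeometry

namespace Groth.Agent.Lib.HensSch.Lift

open Groth.Agent.Lib.HensSch.Sections

theorem map_id_apply' {T : TopCat.{u}} (F : T.Presheaf CommRingCat.{u}) (U : (Opens T)ᵒᵖ)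
    (x : F.obj U) : (F.map (𝟙 U)).hom x = x := by
  rw [CategoryTheory.Functor.map_id]; rfl

theorem flat_of_subsingleton {R B : Type u} [CommRing R] [CommRing B] [Subsingleton B] (α : R →+* B) :
    α.Flat := by
  letI := α.toAlgebra
  haveI : Module.Free R B := Module.Free.of_subsingleton _ _
  exact Module.Flat.of_free

/-- A map which is a Henselization of a localized pair is flat. -/
theorem flat_of_away {A R B₀ B : Type u} [CommRing A] [CommRing R] [CommRing B₀] [CommRing B]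
    (I : Ideal A) (f : A) (ρ : A →+* R) (hρ : letI := ρ.toAlgebra; IsLocalization.Away f R)
    (φ₀ : A →+* B₀) (hB : _root_.HensSch.IsHensAway A I f B₀ φ₀) (α : R →+* B) (e : B₀ ≃+* B)
    (he : α.comp ρ = e.toRingHom.comp φ₀) : α.Flat := by
  letI := α.toAlgebra
  refine Groth.Agent.Lib.Henselian.PairUP.flat (R := R) (K := I.map ρ) (B := B) ⟨?_,
    fun C _ J g hC hJ => universal_of_away I f ρ hρ φ₀ hB α e he (I.map ρ) le_rfl C J g hC hJ⟩
  haveI := hB.2.1
  have h : (I.map ρ).map (algebraMap R B) = (I.map φ₀).comap e.symm.toRingHom := by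
    rw [RingHom.algebraMap_toAlgebra, Ideal.map_map, he, ← Ideal.map_map]
    exact Ideal.map_comap_of_equiv e
  rw [h]
  exact henselianRing_of_equiv e.symm _

variable {X Xh : LocallyRingedSpace.{u}} (ι : Xh ⟶ X) (Y : Set X)

/-- `O(ι⁻¹ U)` is initial among Henselian pairs under `(O(U), van U Y)`. -/
def Good (U : Opens X) : Prop :=
  Universal (A := X.presheaf.obj (op U)) (B := Xh.presheaf.obj (op ((Opens.map ι.base).obj U)))
    (ι.c.app (op U)).hom (van X U Y)

theorem good_of_disjoint (hY : Set.range ι.base ⊆ Y) {U : Opens X} (h : Disjoint (U : Set X) Y) :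
    Good ι Y U := by
  intro C _ K g hC hK
  haveI : Subsingleton (Xh.presheaf.obj (op ((Opens.map ι.base).obj U))) := by
    refine CommRingCat.subsingleton_of_isTerminal (Xh.sheaf.isTerminalOfEqEmpty (Opens.ext ?_))
    exact Set.eq_empty_of_forall_notMem fun x hx => Set.disjoint_left.mp h hx (hY ⟨x, rfl⟩)
  have h1 : (1 : X.presheaf.obj (op U)) ∈ van X U Y :=
    mem_van.mpr fun x hx hxY => absurd hxY (Set.disjoint_left.mp h hx)
  have hu : IsUnit (0 : C) := by
    have : g 1 ∈ K := hK (Ideal.mem_map_of_mem g h1)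
    rw [map_one] at this
    exact Groth.Agent.Lib.Henselian.Basic.isUnit_of_sub_one_mem hC.jac
      (by rw [zero_sub]; exact K.neg_mem this)
  haveI : Subsingleton C := subsingleton_of_zero_eq_one (isUnit_zero_iff.mp hu)
  exact ⟨{ toFun := fun _ => 0
           map_one' := Subsingleton.elim _ _
           map_mul' := fun _ _ => Subsingleton.elim _ _
           map_zero' := rfl
           map_add' := fun _ _ => Subsingleton.elim _ _ }, RingHom.ext fun _ => Subsingleton.elim _ _,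
    fun _ _ => RingHom.ext fun _ => Subsingleton.elim _ _⟩

theorem good_and_flat_of_chart {A : Type u} [CommRing A] (j : _root_.HensSch.specLRS A ⟶ X)
    [LocallyRingedSpace.IsOpenImmersion j] {V : LocallyRingedSpace.{u}} (v : V ⟶ Xh)
    [LocallyRingedSpace.IsOpenImmersion v] (π : V ⟶ _root_.HensSch.specLRS A)
    (hr : Set.range v.base = ι.base ⁻¹' Set.range j.base) (hc : v ≫ ι = π ≫ j) (I : Ideal A)
    (hI : ∀ a ∈ I, ∀ p ∈ j.base ⁻¹' Y, a ∈ (p : PrimeSpectrum A).asIdeal)
    (hV : _root_.HensSch.IsSph A I V π) (f : A) {U : Opens X}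
    (hUr : (U : Set X) ⊆ Set.range j.base) (hUf : (Opens.map j.base).obj U = bas A f) :
    Good ι Y U ∧ (ι.c.app (op U)).hom.Flat := by
  set W := (Opens.map j.base).obj U
  haveI hj : IsIso (j.c.app (op U)) := PresheafedSpace.IsOpenImmersion.c_iso' j.toHom W
    (Opens.ext (Set.image_preimage_eq_of_subset hUr).symm)
  set O : Opens Xh.toTopCat := (Opens.map ι.base).obj U
  have hOr : SetLike.coe O ⊆ Set.range v.base := by
    rw [hr]; exact Set.preimage_mono hUr
  haveI hv : IsIso (v.c.app (op O)) := PresheafedSpace.IsOpenImmersion.c_iso' v.toHom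
    ((Opens.map v.base).obj O) (Opens.ext (Set.image_preimage_eq_of_subset hOr).symm)
  have heq : (Opens.map v.base).obj O = (Opens.map π.base).obj W := by
    ext x
    show ι.base (v.base x) ∈ U ↔ j.base (π.base x) ∈ U
    rw [show ι.base (v.base x) = j.base (π.base x) from congrArg (fun g => g.base x) hc]
  -- the two composites `O(U) → O_V`
  have hcomp : ι.c.app (op U) ≫ v.c.app (op O) ≫ V.presheaf.map (eqToHom (congrArg op heq)) =
      j.c.app (op U) ≫ π.c.app (op W) := by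
    have h1 := PresheafedSpace.congr_app (congrArg (fun g => g.toHom) hc) (op U)
    apply CommRingCat.hom_ext
    refine RingHom.ext fun s => ?_
    refine (congrArg (fun l => (V.presheaf.map (eqToHom (congrArg op heq))).hom (l.hom s)) h1).trans ?_
    show ((V.presheaf.map _) ≫ V.presheaf.map _).hom ((π.c.app (op W)).hom ((j.c.app (op U)).hom s)) = _
    rw [← Functor.map_comp]
    refine (congrArg (fun l => (V.presheaf.map l).hom ((π.c.app (op W)).hom ((j.c.app (op U)).hom s)))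
      (Subsingleton.elim _ (𝟙 (op ((Opens.map π.base).obj W))))).trans ?_
    exact (map_id_apply' V.presheaf _ _).trans rfl
  let ej : X.presheaf.obj (op U) ≅ (_root_.HensSch.specLRS A).presheaf.obj (op W) :=
    asIso (j.c.app (op U))
  let ρ : A →+* (X.presheaf.obj (op U) : Type u) := ej.inv.hom.comp (toSec A W)
  have hρ : letI := ρ.toAlgebra; IsLocalization.Away f (X.presheaf.obj (op U)) := by
    letI := (toSec A W).toAlgebra
    haveI := isLocalization_toSec A hUf
    letI := ρ.toAlgebra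
    exact IsLocalization.isLocalization_of_algEquiv (Submonoid.powers f)
      (AlgEquiv.ofRingEquiv (f := ej.symm.commRingCatIsoToRingEquiv) fun _ => rfl)
  let ev : (Xh.presheaf.obj (op O) : Type u) ≃+* V.presheaf.obj (op ((Opens.map π.base).obj W)) :=
    (asIso (v.c.app (op O)) ≪≫ V.presheaf.mapIso (eqToIso (congrArg op heq))).commRingCatIsoToRingEquiv
  have hB : _root_.HensSch.IsHensAway A I f (V.presheaf.obj (op ((Opens.map π.base).obj W)))
      (_root_.HensSch.secMap π W) := by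
    rw [hUf]; exact hV.2.2 f
  have he : (ι.c.app (op U)).hom.comp ρ = ev.symm.toRingHom.comp (_root_.HensSch.secMap π W) := by
    refine RingHom.ext fun a => ev.injective ?_
    refine Eq.trans ?_ (ev.apply_symm_apply _).symm
    show ev ((ι.c.app (op U)).hom (ρ a)) = _root_.HensSch.secMap π W a
    rw [← app_comp_toSec]
    refine (congrArg (fun g => g.hom (ρ a)) hcomp).trans ?_
    exact congrArg (pa π W) (congrArg (fun g => g.hom (toSec A W a)) ej.inv_hom_id)
  refine ⟨universal_of_away I f ρ hρ _ hB _ ev.symm he _ ?_,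
    flat_of_away I f ρ hρ _ hB _ ev.symm he⟩
  · refine Ideal.map_le_iff_le_comap.mpr fun a ha => mem_van.mpr fun y hy hyY hb => ?_
    obtain ⟨p, rfl⟩ := hUr hy
    have hb' := (mem_basicOpen_app j _ p).mpr hb
    rw [show (j.c.app (op U)).hom (ρ a) = toSec A W a from
      congrArg (fun g => g.hom (toSec A W a)) ej.inv_hom_id] at hb'
    exact ((mem_basicOpen_toSec W a p).mp hb').2 (hI a ha p hyY)

/-- The good opens coming from a Henselization along `Y`, with flatness. -/
theorem exists_good_flat {X : Scheme.{u}} {Y : Set X} {Xh : LocallyRingedSpace.{u}}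
    {ι : Xh ⟶ X.toLocallyRingedSpace} (hh : _root_.HensSch.IsHenselizationAlong X Y Xh ι)
    {W : Opens X} {x : X} (hx : x ∈ W) :
    ∃ U, (Good ι Y U ∧ (ι.c.app (op U)).hom.Flat) ∧ x ∈ U ∧ U ≤ W := by
  by_cases hxY : x ∈ Y
  · obtain ⟨A, _, j, hj, ⟨p, rfl⟩, V, v, hv, π, hr, hc, hV⟩ := hh.2.2.2 x hxY
    haveI := hj; haveI := hv
    obtain ⟨_, ⟨f, rfl⟩, hpf, hfW⟩ := PrimeSpectrum.isTopologicalBasis_basic_opens.exists_subset_of_mem_open
      (show p ∈ ((Opens.map j.base).obj W : Set _) from hx) ((Opens.map j.base).obj W).2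
    refine ⟨j ''ᵁ PrimeSpectrum.basicOpen f, ?_, ⟨p, hpf, rfl⟩, ?_⟩
    · haveI : LocallyRingedSpace.IsOpenImmersion j.toLRSHom := hj
      refine good_and_flat_of_chart ι Y j.toLRSHom v π hr hc _ ?_ hV f (Set.image_subset_range _ _)
        (Opens.ext (Set.preimage_image_eq _ j.isOpenEmbedding.injective))
      intro a ha q hq
      exact (PrimeSpectrum.mem_vanishingIdeal _ _).mp ha q hq
    · rintro _ ⟨q, hq, rfl⟩
      exact hfW hq
  · refine ⟨W ⊓ ⟨Yᶜ, hh.1.isOpen_compl⟩, ⟨?_, ?_⟩, ⟨hx, hxY⟩, inf_le_left⟩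
    · exact good_of_disjoint ι Y hh.2.2.1.le (Set.disjoint_left.mpr fun y hy hyY => hy.2 hyY)
    · haveI : Subsingleton (Xh.presheaf.obj (op ((Opens.map ι.base).obj (W ⊓ ⟨Yᶜ, hh.1.isOpen_compl⟩)))) := by
        refine CommRingCat.subsingleton_of_isTerminal (Xh.sheaf.isTerminalOfEqEmpty (Opens.ext ?_))
        exact Set.eq_empty_of_forall_notMem fun y hy => hy.2 (hh.2.2.1.le ⟨y, rfl⟩)
      exact flat_of_subsingleton (B := Xh.presheaf.obj (op ((Opens.map ι.base).obj (W ⊓ ⟨Yᶜ, hh.1.isOpen_compl⟩)))) _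

/-- The hypotheses on the Henselization used for its universal property. -/
structure Data : Prop where
  inducing : IsEmbedding ι.base
  range_eq : Set.range ι.base = Y
  basis : Opens.IsBasis {U : Opens X | Good ι Y U}

theorem data_of_isHenselizationAlong {X : Scheme.{u}} {Y : Set X} {Xh : LocallyRingedSpace.{u}}
    {ι : Xh ⟶ X.toLocallyRingedSpace} (hh : _root_.HensSch.IsHenselizationAlong X Y Xh ι) :
    Data ι Y := by
  refine ⟨hh.2.1, hh.2.2.1, Opens.isBasis_iff_nbhd.mpr fun {W x} hx => ?_⟩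
  obtain ⟨U, hU, hxU, hUW⟩ := exists_good_flat hh hx
  exact ⟨U, hU.1, hxU, hUW⟩

variable {ι Y}

theorem Data.exists_good (d : Data ι Y) {W : Opens X} {x : X} (hx : x ∈ W) :
    ∃ U, Good ι Y U ∧ x ∈ U ∧ U ≤ W :=
  Opens.isBasis_iff_nbhd.mp d.basis hx

/-- The indexing type of good opens. -/
abbrev GoodOpens (ι : Xh ⟶ X) (Y : Set X) : Type u := {U : Opens X // Good ι Y U}

/-- The basis of `Xh` given by the preimages of good opens. -/
abbrev Bh (i : GoodOpens ι Y) : Opens Xh := (Opens.map ι.base).obj i.1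

theorem Data.isBasis_Bh (d : Data ι Y) : Opens.IsBasis (Set.range (Bh (ι := ι) (Y := Y))) := by
  refine Opens.isBasis_iff_nbhd.mpr fun {O y} hy => ?_
  obtain ⟨O', hO', hO⟩ := d.inducing.isInducing.isOpen_iff.mp O.2
  obtain ⟨U, hU, hyU, hUO⟩ := d.exists_good (W := ⟨O', hO'⟩) (x := ι.base y)
    (show y ∈ ι.base ⁻¹' O' from hO ▸ hy)
  refine ⟨_, ⟨⟨U, hU⟩, rfl⟩, hyU, fun z hz => ?_⟩
  have : z ∈ ι.base ⁻¹' O' := hUO hz
  rw [hO] at this
  exact this

theorem Data.isBasis_good (d : Data ι Y) :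
    Opens.IsBasis (Set.range (fun i : GoodOpens ι Y => i.1)) := by
  rw [Subtype.range_coe_subtype]; exact d.basis

section Uniq

variable {Z : LocallyRingedSpace.{u}}

/-- Two maps of sections agreeing on `O(U)` agree. -/
theorem Data.app_ext (hZ : _root_.HensSch.IsHensScheme Z) {U : Opens X} (hU : Good ι Y U)
    {W : Opens Z} {ψ ψ' : (Xh.presheaf.obj (op ((Opens.map ι.base).obj U)) : Type u) →+* Z.presheaf.obj (op W)}
    (hv : ∀ s ∈ van X U Y, ψ ((ι.c.app (op U)).hom s) ∈ van Z W Set.univ)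
    (h : ψ.comp (ι.c.app (op U)).hom = ψ'.comp (ι.c.app (op U)).hom) : ψ = ψ' :=
  (hU _ _ (ψ.comp (ι.c.app (op U)).hom) (henselianRing_van hZ W)
    (Ideal.map_le_iff_le_comap.mpr hv)).unique rfl h.symm

theorem Data.hom_ext (d : Data ι Y) (hZ : _root_.HensSch.IsHensScheme Z) {a b : Z ⟶ Xh}
    (h : a ≫ ι = b ≫ ι) : a = b := by
  have hb : a.base = b.base := by
    ext z
    exact d.inducing.injective (congrArg (fun g => g.base z) h)
  obtain ⟨⟨φ, c⟩, pa⟩ := a
  obtain ⟨⟨φ', c'⟩, pb⟩ := b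
  obtain rfl : φ = φ' := hb
  apply LocallyRingedSpace.Hom.ext'
  suffices c = c' by subst this; rfl
  refine TopCat.Sheaf.hom_ext Xh.presheaf ((TopCat.Sheaf.pushforward _ φ).obj Z.sheaf) d.isBasis_Bh fun i => ?_
  have h2 := PresheafedSpace.congr_app (congrArg (fun g => g.toHom) h) (op i.1)
  erw [eqToHom_refl, CategoryTheory.Functor.map_id, Category.comp_id] at h2
  apply CommRingCat.hom_ext
  refine Data.app_ext hZ i.2 (fun s hs => ?_) (congrArg CommRingCat.Hom.hom h2)
  exact app_mem_van ((⟨⟨φ, c⟩, pa⟩ : Z ⟶ Xh) ≫ ι) (T := Set.univ)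
    (fun z _ _ => d.range_eq ▸ ⟨φ z, rfl⟩) hs

end Uniq

section Exist

variable {Z : LocallyRingedSpace.{u}}

theorem Data.exists_lift (d : Data ι Y) (hZ : _root_.HensSch.IsHensScheme Z) (g : Z ⟶ X)
    (hg : Set.range g.base ⊆ Y) : ∃ g' : Z ⟶ Xh, g' ≫ ι = g := by
  have hex : ∀ z, ∃ y, ι.base y = g.base z := fun z => d.range_eq.ge (hg ⟨z, rfl⟩)
  choose φ₀ hφ₀ using hex
  let φ : Z.toTopCat ⟶ Xh.toTopCat := TopCat.ofHom ⟨φ₀, d.inducing.isInducing.continuous_iff.mpr (by
    rw [show ι.base ∘ φ₀ = g.base from funext hφ₀]; exact g.base.hom.continuous)⟩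
  have hφ : φ ≫ ι.base = g.base := by ext z; exact hφ₀ z
  let P : Opens X → Opens Z := fun U => (Opens.map φ).obj ((Opens.map ι.base).obj U)
  have hP : ∀ U, P U = (Opens.map g.base).obj U := fun U => by
    ext z
    show ι.base (φ₀ z) ∈ U ↔ g.base z ∈ U
    rw [hφ₀]
  let gc : ∀ U : Opens X, (X.presheaf.obj (op U) : Type u) →+* Z.presheaf.obj (op (P U)) :=
    fun U => (g.c.app (op U) ≫ Z.presheaf.map (eqToHom (hP U)).op).hom
  have gc_nat : ∀ {U U' : Opens X} (k : U ⟶ U') (k' : P U ⟶ P U') s,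
      (Z.presheaf.map k'.op).hom (gc U' s) = gc U ((X.presheaf.map k.op).hom s) := by
    intro U U' k k' s
    show (g.c.app (op U') ≫ Z.presheaf.map (eqToHom (hP U')).op ≫ Z.presheaf.map k'.op).hom s =
      ((X.presheaf.map k.op ≫ g.c.app (op U)) ≫ Z.presheaf.map (eqToHom (hP U)).op).hom s
    rw [g.c.naturality, Category.assoc, TopCat.Presheaf.pushforward_obj_map, ← Functor.map_comp,
      ← Functor.map_comp]
    exact congrArg (fun l => (g.c.app (op U') ≫ Z.presheaf.map l).hom s) (Subsingleton.elim _ _)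
  have gc_van : ∀ (U : Opens X), ∀ s ∈ van X U Y, gc U s ∈ van Z (P U) Set.univ := fun U s hs =>
    res_mem_van _ (app_mem_van g (T := Set.univ) (fun z _ _ => hg ⟨z, rfl⟩) hs)
  have hψ := fun i : GoodOpens ι Y => i.2 _ _ (gc i.1) (henselianRing_van hZ (P i.1))
    (Ideal.map_le_iff_le_comap.mpr (gc_van i.1))
  choose ψ hψ using fun i => (hψ i).exists
  -- compatibility of the `ψ`
  have compat : ∀ (i k : GoodOpens ι Y) (le : k.1 ≤ i.1) (t : Xh.presheaf.obj (op (Bh i))),
      (Z.presheaf.map (homOfLE (fun z hz => le hz) : P k.1 ⟶ P i.1).op).hom (ψ i t) =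
        ψ k ((Xh.presheaf.map (homOfLE (fun z hz => le hz) : Bh k ⟶ Bh i).op).hom t) := by
    intro i k le
    refine fun t => RingHom.congr_fun (Data.app_ext hZ i.2
      (ψ := (Z.presheaf.map (homOfLE (fun z hz => le hz) : P k.1 ⟶ P i.1).op).hom.comp (ψ i))
      (ψ' := (ψ k).comp (Xh.presheaf.map (homOfLE (fun z hz => le hz) : Bh k ⟶ Bh i).op).hom)
      (fun s hs => ?_) (RingHom.ext fun s => ?_)) t
    · refine res_mem_van _ ?_
      rw [show ψ i _ = gc i.1 s from RingHom.congr_fun (hψ i) s]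
      exact gc_van _ s hs
    · have h3 : (Xh.presheaf.map (homOfLE (fun z hz => le hz) : Bh k ⟶ Bh i).op).hom
          ((ι.c.app (op i.1)).hom s) = (ι.c.app (op k.1)).hom ((X.presheaf.map (homOfLE le).op).hom s) :=
        (congrArg (fun l => l.hom s) (ι.c.naturality (homOfLE le).op)).symm
      show (Z.presheaf.map _).hom (ψ i _) = ψ k _
      rw [show ψ i _ = gc i.1 s from RingHom.congr_fun (hψ i) s, h3,
        show ψ k _ = gc k.1 _ from RingHom.congr_fun (hψ k) _]
      exact gc_nat _ _ s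
  let F' := (TopCat.Sheaf.pushforward CommRingCat φ).obj Z.sheaf
  let α : (inducedFunctor (Bh (ι := ι) (Y := Y))).op ⋙ Xh.presheaf ⟶
      (inducedFunctor (Bh (ι := ι) (Y := Y))).op ⋙ F'.1 :=
    { app := fun i => CommRingCat.ofHom (ψ i.unop)
      naturality := fun i k l => by
        ext s
        have hk : Bh k.unop ≤ Bh i.unop := ((inducedFunctor Bh).map l.unop).le
        have hcov : ∀ z : P k.unop.1, ∃ m : GoodOpens ι Y,
            g.base z.1 ∈ m.1 ∧ m.1 ≤ i.unop.1 ⊓ k.unop.1 := fun z => by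
          obtain ⟨U, hU, hzU, hle⟩ := d.exists_good (W := i.unop.1 ⊓ k.unop.1) (x := g.base z.1)
            ⟨hφ₀ z.1 ▸ hk (x := φ₀ z.1) z.2, hφ₀ z.1 ▸ z.2⟩
          exact ⟨⟨U, hU⟩, hzU, hle⟩
        choose m hm hm' using hcov
        refine Z.sheaf.eq_of_locally_eq' (fun z => P (m z).1) (P k.unop.1)
          (fun z => homOfLE fun w hw => (hm' z hw).2)
          (fun z hz => Opens.mem_iSup.mpr ⟨⟨z, hz⟩, (hP _).ge (hm ⟨z, hz⟩)⟩) _ _ fun z => ?_
        refine (compat k.unop (m z) (fun w hw => (hm' z hw).2) _).trans ?_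
        refine Eq.trans ?_ ((congrArg (fun l => l.hom (ψ i.unop s)) (Z.presheaf.map_comp _ _)).trans rfl)
        refine Eq.trans ?_ (congrArg (fun l => (Z.presheaf.map l).hom (ψ i.unop s))
          (Subsingleton.elim (homOfLE (fun w hw => (hm' z hw).1) : P (m z).1 ⟶ P i.unop.1).op _))
        refine Eq.trans (congrArg (ψ (m z)) ?_) (compat i.unop (m z) (fun w hw => (hm' z hw).1) s).symm
        show (Xh.presheaf.map ((inducedFunctor Bh).op.map l) ≫ Xh.presheaf.map _).hom s = _
        rw [← Functor.map_comp]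
        exact congrArg (fun l => (Xh.presheaf.map l).hom s) (Subsingleton.elim _ _) }
  let c : Xh.presheaf ⟶ F'.1 := TopCat.Sheaf.restrictHomEquivHom Xh.presheaf F' d.isBasis_Bh α
  have hcB : ∀ i, (c.app (op (Bh i))).hom = ψ i := fun i => by
    rw [show c.app (op (Bh i)) = α.app (op i) from TopCat.Sheaf.extend_hom_app _ _ _ α i]
    rfl
  let gh : Z.toPresheafedSpace ⟶ Xh.toPresheafedSpace := ⟨φ, c⟩
  have hloc : ∀ z, IsLocalHom (gh.stalkMap z).hom := fun z => by
    refine ⟨fun a ha => ?_⟩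
    obtain ⟨O, hzO, s₀, rfl⟩ := Xh.presheaf.exists_germ_eq a
    obtain ⟨_, ⟨i, rfl⟩, hzi, hiO⟩ := Opens.isBasis_iff_nbhd.mp d.isBasis_Bh hzO
    rw [← Xh.presheaf.germ_res_apply (homOfLE hiO) _ hzi s₀] at ha ⊢
    set s := (Xh.presheaf.map (homOfLE hiO).op).hom s₀
    rw [PresheafedSpace.stalkMap_germ_apply] at ha
    replace ha : IsUnit ((Z.presheaf.germ (P i.1) z hzi).hom (ψ i s)) := by rw [← hcB]; exact ha
    obtain ⟨r, hr⟩ := i.2.exists_sub_mem s
    have hmv : (van X i.1 Y).map (ι.c.app (op i.1)).hom ≤ van Xh (Bh i) Set.univ :=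
      Ideal.map_le_iff_le_comap.mpr fun t ht =>
        app_mem_van ι (fun y _ _ => d.range_eq ▸ ⟨y, rfl⟩) ht
    have hmv' : ((van X i.1 Y).map (ι.c.app (op i.1)).hom).map (ψ i) ≤ van Z (P i.1) Set.univ := by
      rw [Ideal.map_map, show (ψ i).comp _ = gc i.1 from hψ i]
      exact Ideal.map_le_iff_le_comap.mpr (gc_van i.1)
    by_contra hs
    have h1 : (Xh.presheaf.germ (Bh i) (φ z) hzi).hom ((ι.c.app (op i.1)).hom r) ∈
        IsLocalRing.maximalIdeal _ := by
      have ht := mem_van.mp (hmv hr) (φ z) hzi trivial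
      rw [Xh.toRingedSpace.mem_basicOpen _ _ hzi] at ht
      have := sub_mem ((IsLocalRing.mem_maximalIdeal _).mpr hs) ((IsLocalRing.mem_maximalIdeal _).mpr ht)
      rwa [map_sub, sub_sub_cancel] at this
    have h2 : φ z ∉ Xh.toRingedSpace.basicOpen ((ι.c.app (op i.1)).hom r) := fun hb =>
      (IsLocalRing.mem_maximalIdeal _).mp h1 ((Xh.toRingedSpace.mem_basicOpen _ _ hzi).mp hb)
    rw [mem_basicOpen_app] at h2
    have h3 : z ∉ Z.toRingedSpace.basicOpen (gc i.1 r) := fun hb => by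
      have hb' := (mem_basicOpen_app g r z).mp ((mem_basicOpen_res _ _ z).mp hb).2
      rw [← hφ₀ z] at hb'
      exact h2 hb'
    have h4 := mem_van.mp (hmv' (Ideal.mem_map_of_mem (ψ i) hr)) z hzi trivial
    rw [map_sub, show ψ i ((ι.c.app (op i.1)).hom r) = gc i.1 r from RingHom.congr_fun (hψ i) r,
      Z.toRingedSpace.mem_basicOpen _ _ hzi, map_sub] at h4
    rw [Z.toRingedSpace.mem_basicOpen _ _ hzi] at h3
    have h5 := add_mem ((IsLocalRing.mem_maximalIdeal _).mpr h4) ((IsLocalRing.mem_maximalIdeal _).mpr h3)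
    rw [sub_add_cancel] at h5
    exact (IsLocalRing.mem_maximalIdeal _).mp h5 ha
  let g' : Z ⟶ Xh := ⟨gh, hloc⟩
  refine ⟨g', ?_⟩
  apply LocallyRingedSpace.Hom.ext'
  refine PresheafedSpace.Hom.ext _ _ (show (g' ≫ ι).base = g.base from hφ) ?_
  refine TopCat.Sheaf.hom_ext X.presheaf ((TopCat.Sheaf.pushforward _ g.base).obj Z.sheaf) d.isBasis_good fun i => ?_
  apply CommRingCat.hom_ext
  refine RingHom.ext fun s => ?_
  show (Z.presheaf.map _).hom ((c.app (op (Bh i))).hom ((ι.c.app (op i.1)).hom s)) = (g.c.app (op i.1)).hom s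
  refine (congrArg (Z.presheaf.map _).hom
    ((RingHom.congr_fun (hcB i) _).trans (RingHom.congr_fun (hψ i) s))).trans ?_
  show (Z.presheaf.map _ ≫ Z.presheaf.map _).hom ((g.c.app (op i.1)).hom s) = _
  rw [← Functor.map_comp]
  refine (congrArg (fun l => (Z.presheaf.map l).hom ((g.c.app (op i.1)).hom s))
    (Subsingleton.elim _ (𝟙 (op ((Opens.map g.base).obj i.1))))).trans ?_
  exact map_id_apply' Z.presheaf _ _

theorem Data.existsUnique_lift (d : Data ι Y) (hZ : _root_.HensSch.IsHensScheme Z) (g : Z ⟶ X)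
    (hg : Set.range g.base ⊆ Y) : ∃! g' : Z ⟶ Xh, g' ≫ ι = g := by
  obtain ⟨g', hg'⟩ := d.exists_lift hZ g hg
  exact ⟨g', hg', fun b hb => d.hom_ext hZ (hb.trans hg'.symm)⟩

end Exist

end Groth.Agent.Lib.HensSch.Lift
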