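import Groth.Agent.Lib.HensSch.Descent
import Groth.Agent.Lib.HensSch.Lift
import Mathlib.RingTheory.Etale.Pi
import Mathlib.RingTheory.Unramified.Finite

/-!
# Descent for modules along Henselizations of localizations

`(S, J)` a Henselian pair, `B i` the Henselization of `(S_{g i}, J)`, the `D(g i)` covering `V(J)`.
* `eq_zero_of_forall`: `M → ∏ B i ⊗ M` is injective;
* `existsUnique_glue`: families in `B i ⊗ M` agreeing in `B i j ⊗ M` come from a unique element of `M`.
-/

universe u

open TensorProduct

namespace Groth.Agent.Lib.HensSch.FamilyDescent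

open Groth.Agent.Lib.HensSch.Descent

variable {S : Type u} [CommRing S] {J : Ideal S} {M : Type u} [AddCommGroup M] [Module S M]

theorem exists_point {g : S} {B : Type u} [CommRing B] [Algebra S B]
    (hB : _root_.HensSch.IsHensAway S J g B (algebraMap S B)) (q : Ideal S) [q.IsPrime] (hq : J ≤ q)
    (hg : g ∉ q) : Nonempty (B →ₐ[S] q.ResidueField) := by
  obtain ⟨θ, hθ, -⟩ := hB.2.2 q.ResidueField ⊥ (algebraMap S q.ResidueField)
    (Sections.henselianRing_bot _)
    (Ideal.map_le_iff_le_comap.mpr fun a ha => Ideal.mem_bot.mpr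
      (Ideal.algebraMap_residueField_eq_zero.mpr (hq ha)))
    (isUnit_iff_ne_zero.mpr fun h => hg (Ideal.algebraMap_residueField_eq_zero.mp h))
  exact ⟨{ θ with commutes' := fun a => RingHom.congr_fun hθ a }⟩

theorem flat_hensAway {g : S} {B : Type u} [CommRing B] [Algebra S B]
    (hB : _root_.HensSch.IsHensAway S J g B (algebraMap S B)) : Module.Flat S B := by
  let R := Localization.Away g
  let α : R →+* B := IsLocalization.Away.lift g hB.1
  have hf : α.Flat := by
    refine Lift.flat_of_away J g (algebraMap S R) ?_ (algebraMap S B) hB α (RingEquiv.refl B) ?_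
    · have h : IsLocalization.Away g R := inferInstance
      convert! h
      exact Algebra.algebra_ext _ _ fun _ => rfl
    · exact RingHom.ext fun a => IsLocalization.Away.lift_eq g hB.1 a
  letI := α.toAlgebra
  haveI : IsScalarTower S R B := IsScalarTower.of_algebraMap_eq fun a =>
    (IsLocalization.Away.lift_eq g hB.1 a).symm
  haveI : Module.Flat R B := hf
  haveI : Module.Flat S R := IsLocalization.flat R (Submonoid.powers g)
  exact Module.Flat.trans S R B

/-- An element killed in all `B i ⊗ M` is zero. -/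
theorem eq_zero_of_forall [HenselianRing S J] {κ : Type u} (g : κ → S)
    (hcov : ∀ q : Ideal S, q.IsPrime → J ≤ q → ∃ i, g i ∉ q)
    (B : κ → Type u) [∀ i, CommRing (B i)] [∀ i, Algebra S (B i)]
    (hB : ∀ i, _root_.HensSch.IsHensAway S J (g i) (B i) (algebraMap S (B i)))
    (n : M) (hn : ∀ i, (1 : B i) ⊗ₜ[S] n = 0) : n = 0 := by
  let A : Ideal S := LinearMap.ker (LinearMap.toSpanSingleton S M n)
  suffices A = ⊤ by
    have h1 : (1 : S) ∈ A := this ▸ Submodule.mem_top
    simpa [A] using h1
  by_contra hne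
  obtain ⟨m, hm, hAm⟩ := Ideal.exists_le_maximal A hne
  have hJm : J ≤ m := le_trans HenselianRing.jac (sInf_le ⟨bot_le, hm⟩)
  obtain ⟨i, hi⟩ := hcov m hm.isPrime hJm
  obtain ⟨θ⟩ := exists_point (hB i) m hJm hi
  haveI := flat_hensAway (hB i)
  haveI : (RingHom.ker θ).IsPrime := RingHom.ker_isPrime _
  have h : KilledNear (RingHom.ker θ)
      (Descent.push M (IsScalarTower.toAlgHom S S (B i)) ((1 : S) ⊗ₜ[S] n)) := by
    have h0 : Descent.push M (IsScalarTower.toAlgHom S S (B i)) ((1 : S) ⊗ₜ[S] n) = 0 := by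
      rw [← hn i]; simp
    rw [h0]
    exact KilledNear.zero
  obtain ⟨r, hr, hr0⟩ := KilledNear.of_flat h
  refine hr ?_
  rw [Ideal.mem_comap, RingHom.mem_ker, AlgHom.commutes, Ideal.algebraMap_residueField_eq_zero]
  refine hAm (show r • n = 0 from ?_)
  have := congrArg (TensorProduct.lid S M) hr0
  simpa using this

theorem exists_rep {g : S} {B : Type u} [CommRing B] [Algebra S B]
    (hB : _root_.HensSch.IsHensAway S J g B (algebraMap S B)) (t : B ⊗[S] M) :
    ∃ (E : Type u) (_ : CommRing E) (_ : Algebra S E) (_ : Algebra.Etale S E) (φ : E →ₐ[S] B)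
      (s : E ⊗[S] M),
      push M φ s = t ∧ IsUnit (algebraMap S E g) ∧
      (∀ q : Ideal S, q.IsPrime → J ≤ q → g ∉ q →
        ∃ P : Ideal E, P.IsPrime ∧ P.comap (algebraMap S E) = q) ∧
      (∀ (L : Type u) [Field L] [Algebra S L] (a b : E →ₐ[S] L),
        J ≤ RingHom.ker (algebraMap S L) → a = b) := by
  let R := Localization.Away g
  let α : R →+* B := IsLocalization.Away.lift g hB.1
  letI := α.toAlgebra
  haveI : IsScalarTower S R B := IsScalarTower.of_algebraMap_eq fun a =>
    (IsLocalization.Away.lift_eq g hB.1 a).symm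
  have hP : Hens2.IsPairHenselization R (J.map (algebraMap S R)) B := by
    refine ⟨?_, fun C _ K h hC hK => ?_⟩
    · rw [Ideal.map_map, ← IsScalarTower.algebraMap_eq]
      exact hB.2.1
    · rw [Ideal.map_map] at hK
      obtain ⟨ψ, hψ, huniq⟩ := hB.2.2 C K (h.comp (algebraMap S R)) hC hK
        ((IsLocalization.Away.algebraMap_isUnit g).map h)
      refine ⟨ψ, IsLocalization.ringHom_ext (Submonoid.powers g) ?_, fun ψ' h' => huniq ψ' ?_⟩
      · rw [RingHom.comp_assoc, ← IsScalarTower.algebraMap_eq]
        exact hψ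
      · show ψ'.comp (algebraMap S B) = _
        rw [IsScalarTower.algebraMap_eq S R B, ← RingHom.comp_assoc, h']
  obtain ⟨F, hF⟩ := TensorProduct.exists_finset t
  let χ : MvPolynomial F S →ₐ[S] B := MvPolynomial.aeval fun k => k.1.1
  obtain ⟨E, _, _, _, _, _, hnb, φ, ψ, hφψ⟩ :=
    Groth.Agent.Lib.Henselian.PairUP.exists_factor hP χ
  haveI : Algebra.Etale S R := Algebra.Etale.of_isLocalizationAway g
  haveI : Algebra.Etale S E := Algebra.Etale.comp S R E
  refine ⟨E, inferInstance, inferInstance, inferInstance, φ.restrictScalars S,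
    ∑ k : F, ψ (MvPolynomial.X k) ⊗ₜ[S] k.1.2, ?_, ?_, ?_, ?_⟩
  · rw [hF, map_sum]
    refine (Finset.sum_congr rfl fun k _ => ?_).trans (Finset.sum_coe_sort F fun k => k.1 ⊗ₜ[S] k.2)
    show push M (φ.restrictScalars S) (ψ (MvPolynomial.X k) ⊗ₜ[S] k.1.2) = k.1.1 ⊗ₜ[S] k.1.2
    rw [push, LinearMap.rTensor_tmul]
    refine congrArg (· ⊗ₜ[S] k.1.2) ?_
    show ((φ.restrictScalars S).comp ψ) (MvPolynomial.X k) = _
    rw [hφψ]
    simp [χ]
  · rw [IsScalarTower.algebraMap_apply S R E]
    exact (IsLocalization.Away.algebraMap_isUnit g).map _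
  · intro q hq hJq hgq
    have hdis : Disjoint (Submonoid.powers g : Set S) q :=
      Set.disjoint_left.mpr fun x ⟨n, hn⟩ hx => hgq (hq.mem_of_pow_mem n (by rw [show g ^ n = x from hn]; exact hx))
    set qR := q.map (algebraMap S R)
    have hqR : qR.IsPrime := IsLocalization.isPrime_of_isPrime_disjoint _ _ q hq hdis
    set K := J.map (algebraMap S R)
    have hKq : RingHom.ker (Ideal.Quotient.mk K) ≤ qR := by
      rw [Ideal.mk_ker]; exact Ideal.map_mono hJq
    let qb := qR.map (Ideal.Quotient.mk K)
    have hqb : qb.IsPrime := Ideal.map_isPrime_of_surjective Ideal.Quotient.mk_surjective hKq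
    let e := RingEquiv.ofBijective _ hnb
    refine ⟨(qb.comap e.symm.toRingHom).comap (Ideal.Quotient.mk _), inferInstance, ?_⟩
    have h1 : qb.comap (Ideal.Quotient.mk K) = qR := by
      rw [Ideal.comap_map_of_surjective _ Ideal.Quotient.mk_surjective, ← RingHom.ker_eq_comap_bot,
        sup_eq_left.mpr hKq]
    ext a
    rw [Ideal.mem_comap, Ideal.mem_comap, Ideal.mem_comap, IsScalarTower.algebraMap_apply S R E]
    show e.symm (Ideal.Quotient.mk _ (algebraMap R E (algebraMap S R a))) ∈ qb ↔ _
    rw [show Ideal.Quotient.mk _ (algebraMap R E (algebraMap S R a)) =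
      e (Ideal.Quotient.mk K (algebraMap S R a)) from rfl, e.symm_apply_apply, ← Ideal.mem_comap, h1,
      ← Ideal.mem_comap]
    have := IsLocalization.comap_map_of_isPrime_disjoint (Submonoid.powers g) R hq hdis
    exact SetLike.ext_iff.mp this a
  · intro L _ _ a b hJL
    have hK : ∀ c : E →ₐ[S] L, (J.map (algebraMap S R)).map (algebraMap R E) ≤ RingHom.ker c := fun c => by
      rw [Ideal.map_map, ← IsScalarTower.algebraMap_eq, Ideal.map_le_iff_le_comap]
      intro j hj
      rw [Ideal.mem_comap, RingHom.mem_ker, AlgHom.commutes]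
      exact hJL hj
    refine AlgHom.ext fun x => ?_
    obtain ⟨r, hr⟩ := hnb.2 (Ideal.Quotient.mk _ x)
    obtain ⟨r, rfl⟩ := Ideal.Quotient.mk_surjective r
    rw [Ideal.quotientMap_mk, Ideal.Quotient.eq] at hr
    have hab : a.toRingHom.comp (algebraMap R E) = b.toRingHom.comp (algebraMap R E) := by
      refine IsLocalization.ringHom_ext (Submonoid.powers g) (RingHom.ext fun s => ?_)
      simp only [RingHom.comp_apply, AlgHom.toRingHom_eq_coe, RingHom.coe_coe]
      rw [← IsScalarTower.algebraMap_apply S R E, AlgHom.commutes, AlgHom.commutes]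
    have h1 := hK a hr
    have h2 := hK b hr
    rw [RingHom.mem_ker, map_sub, sub_eq_zero] at h1 h2
    rw [← h1, ← h2]
    exact RingHom.congr_fun hab r

variable [HenselianRing S J] {κ : Type u} [Finite κ] (g : κ → S)
  (hcov : ∀ q : Ideal S, q.IsPrime → J ≤ q → ∃ i, g i ∉ q)
  (B : κ → Type u) [∀ i, CommRing (B i)] [∀ i, Algebra S (B i)]
  (hB : ∀ i, _root_.HensSch.IsHensAway S J (g i) (B i) (algebraMap S (B i)))
  (B₂ : κ → κ → Type u) [∀ i j, CommRing (B₂ i j)] [∀ i j, Algebra S (B₂ i j)]
  (hB₂ : ∀ i j, _root_.HensSch.IsHensAway S J (g i * g j) (B₂ i j) (algebraMap S (B₂ i j)))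
  (r₁ : ∀ i j, B i →ₐ[S] B₂ i j) (r₂ : ∀ i j, B j →ₐ[S] B₂ i j)

include hcov hB hB₂ in
/-- Compatible families come from `M`. -/
theorem existsUnique_glue (t : ∀ i, B i ⊗[S] M)
    (ht : ∀ i j, push M (r₁ i j) (t i) = push M (r₂ i j) (t j)) :
    ∃! m : M, ∀ i, (1 : B i) ⊗ₜ[S] m = t i := by
  classical
  cases nonempty_fintype κ
  choose E instR instA hEt φ s hs hgE hpr huniq using fun i => exists_rep (hB i) (t i)
  letI := instR
  letI := instA
  haveI := hEt
  let P := ∀ i, E i
  let π : ∀ i, P →ₐ[S] E i := fun i => Pi.evalAlgHom S E i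
  let σ : ∀ i, E i →ₗ[S] P := fun i => LinearMap.single S E i
  have hπσ : ∀ i, (π i).toLinearMap.comp (σ i) = LinearMap.id := fun i =>
    LinearMap.ext fun x => by
      show (Pi.single i x : P) i = x
      simp
  have hπσ' : ∀ i j, j ≠ i → (π i).toLinearMap.comp (σ j) = 0 := fun i j hj =>
    LinearMap.ext fun x => by
      show (Pi.single j x : P) i = 0
      simp [Pi.single_eq_of_ne hj.symm]
  let z : P ⊗[S] M := ∑ i, (σ i).rTensor M (s i)
  have hz : ∀ i, push M (π i) z = s i := fun i => by
    rw [map_sum, Finset.sum_eq_single i]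
    · rw [push, ← LinearMap.rTensor_comp_apply, hπσ, LinearMap.rTensor_id_apply]
    · intro j _ hj
      rw [push, ← LinearMap.rTensor_comp_apply, hπσ' i j hj, LinearMap.rTensor_zero, LinearMap.zero_apply]
    · simp
  have hd : ∀ w : Ideal (P ⊗[S] P), w.IsPrime → J.map (algebraMap S (P ⊗[S] P)) ≤ w →
      KilledNear w (d0 z) := by
    intro w hw hJw
    let ε : κ → κ → P ⊗[S] P := fun i j => (Pi.single i 1 : P) ⊗ₜ[S] (Pi.single j 1 : P)
    obtain ⟨i, j, hij⟩ : ∃ i j, ε i j ∉ w := by
      by_contra h
      push Not at h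
      have h1 : (1 : P ⊗[S] P) = ∑ i, ∑ j, ε i j := by
        simp only [ε, ← TensorProduct.tmul_sum, ← TensorProduct.sum_tmul,
          Finset.univ_sum_single (fun _ : κ => (1 : _))]
        rw [Algebra.TensorProduct.one_def]
        congr 1 <;> exact (Finset.univ_sum_single (1 : P)).symm
      exact hw.ne_top ((Ideal.eq_top_iff_one w).mpr (h1 ▸ sum_mem fun i _ => sum_mem fun j _ => h i j))
    let p : P ⊗[S] P →ₐ[S] E i ⊗[S] E j := Algebra.TensorProduct.map (π i) (π j)
    let τ : E i ⊗[S] E j →ₗ[S] P ⊗[S] P := TensorProduct.map (σ i) (σ j)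
    have hετ : ∀ x, ε i j * x = τ (p x) := fun x => by
      induction x using TensorProduct.induction_on with
      | zero => simp
      | add a b ha hb => simp only [mul_add, map_add, ha, hb]
      | tmul a b =>
        simp only [ε, p, τ, σ, π, Algebra.TensorProduct.tmul_mul_tmul, Algebra.TensorProduct.map_tmul,
          TensorProduct.map_tmul, Pi.evalAlgHom_apply]
        congr 1
        · funext k
          show (Pi.single i 1 : P) k * _ = (Pi.single i _ : P) k
          rcases eq_or_ne k i with hk | hk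
          · subst hk
            simp only [Pi.single_eq_same, one_mul]
            rfl
          · simp only [Pi.single_eq_of_ne hk, zero_mul]
        · funext k
          show (Pi.single j 1 : P) k * _ = (Pi.single j _ : P) k
          rcases eq_or_ne k j with hk | hk
          · subst hk
            simp only [Pi.single_eq_same, one_mul]
            rfl
          · simp only [Pi.single_eq_of_ne hk, zero_mul]
    have hετ' : ∀ x : (P ⊗[S] P) ⊗[S] M, ε i j • x = τ.rTensor M (push M p x) := fun x => by
      induction x using TensorProduct.induction_on with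
      | zero => simp
      | add a b ha hb => simp only [smul_add, map_add, ha, hb]
      | tmul a b => simp [TensorProduct.smul_tmul', hετ]
    have hps : Function.Surjective p :=
      TensorProduct.map_surjective (fun x => ⟨σ i x, LinearMap.congr_fun (hπσ i) x⟩)
        (fun x => ⟨σ j x, LinearMap.congr_fun (hπσ j) x⟩)
    have hker : RingHom.ker p ≤ w := fun x hx => by
      refine (hw.mem_or_mem (show ε i j * x ∈ w from ?_)).resolve_left hij
      rw [hετ, RingHom.mem_ker.mp hx, map_zero]
      exact w.zero_mem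
    set w' := w.map p
    have hw' : w'.IsPrime := Ideal.map_isPrime_of_surjective hps hker
    have hJw' : J.map (algebraMap S (E i ⊗[S] E j)) ≤ w' := by
      rw [← p.comp_algebraMap, ← Ideal.map_map]
      exact Ideal.map_mono hJw
    -- the point over `V(J)`
    let L := w'.ResidueField
    let ν : E i ⊗[S] E j →ₐ[S] L := IsScalarTower.toAlgHom S _ _
    set q := w'.comap (algebraMap S (E i ⊗[S] E j))
    have hJq : J ≤ q := Ideal.map_le_iff_le_comap.mp hJw'
    have hgu : ∀ k, IsUnit (algebraMap S (B k) (g k)) := fun k => (hB k).1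
    let bp : E i ⊗[S] E j →ₐ[S] B₂ i j :=
      Algebra.TensorProduct.productMap ((r₁ i j).comp (φ i)) ((r₂ i j).comp (φ j))
    have hgq : g i * g j ∉ q := by
      intro hmem
      have hL : algebraMap S L (g i * g j) = 0 := by
        rw [IsScalarTower.algebraMap_apply S (E i ⊗[S] E j) L, Ideal.algebraMap_residueField_eq_zero]
        exact hmem
      rw [map_mul] at hL
      have key : ∀ k, (E k →ₐ[S] L) → algebraMap S L (g k) ≠ 0 := fun k c hk => by
        rw [← c.commutes] at hk
        exact ((hgE k).map c).ne_zero hk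
      rcases mul_eq_zero.mp hL with h | h
      · exact key i (ν.comp Algebra.TensorProduct.includeLeft) h
      · exact key j (ν.comp Algebra.TensorProduct.includeRight) h
    obtain ⟨θ⟩ := exists_point (hB₂ i j) q hJq hgq
    let qL : q.ResidueField →ₐ[S] L := Ideal.ResidueField.mapₐ q w' (Algebra.ofId S _) rfl
    have hJL : J ≤ RingHom.ker (algebraMap S L) := fun a ha => by
      rw [RingHom.mem_ker, IsScalarTower.algebraMap_apply S (E i ⊗[S] E j) L,
        Ideal.algebraMap_residueField_eq_zero]
      exact hJq ha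
    have hνθ : ν = (qL.comp θ).comp bp :=
      Algebra.TensorProduct.ext (huniq i L _ _ hJL) (huniq j L _ _ hJL)
    letI : Algebra (E i ⊗[S] E j) (B₂ i j) := bp.toRingHom.toAlgebra
    haveI : IsScalarTower S (E i ⊗[S] E j) (B₂ i j) :=
      IsScalarTower.of_algebraMap_eq fun a => (bp.commutes a).symm
    haveI := flat_hensAway (hB₂ i j)
    haveI : Algebra.Etale S (E i ⊗[S] E j) := Algebra.Etale.comp S (E i) (E i ⊗[S] E j)
    haveI : Module.Flat (E i ⊗[S] E j) (B₂ i j) :=
      Algebra.FormallyUnramified.flat_of_restrictScalars S (E i ⊗[S] E j) (B₂ i j)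
    haveI : (RingHom.ker (qL.comp θ)).IsPrime := RingHom.ker_isPrime _
    -- the difference over `E i ⊗ E j`
    set dij := push M (Algebra.TensorProduct.includeLeft (R := S) (S := S)) (s i) -
      push M (Algebra.TensorProduct.includeRight (A := E i)) (s j)
    have hp : push M p (d0 z) = dij := by
      rw [push_dd]
      simp only [dd, dij]
      rw [← hz i, ← hz j, push_push, push_push]
      congr 2
    have h0 : push M (IsScalarTower.toAlgHom S (E i ⊗[S] E j) (B₂ i j)) dij = 0 := by
      rw [map_sub, push_push, push_push, sub_eq_zero]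
      have e1 : (IsScalarTower.toAlgHom S (E i ⊗[S] E j) (B₂ i j)).comp
          (Algebra.TensorProduct.includeLeft (R := S) (S := S)) = (r₁ i j).comp (φ i) :=
        AlgHom.ext fun x => by
          show bp (x ⊗ₜ[S] (1 : E j)) = _
          simp [bp]
      have e2 : (IsScalarTower.toAlgHom S (E i ⊗[S] E j) (B₂ i j)).comp
          (Algebra.TensorProduct.includeRight (A := E i)) = (r₂ i j).comp (φ j) :=
        AlgHom.ext fun x => by
          show bp ((1 : E i) ⊗ₜ[S] x) = _
          simp [bp]
      rw [e1, e2, ← push_push, ← push_push, hs i, hs j]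
      exact ht i j
    obtain ⟨r, hr, hr0⟩ := KilledNear.of_flat
      (w := RingHom.ker (qL.comp θ)) (E := E i ⊗[S] E j) (T := B₂ i j) (x := dij)
      (by rw [h0]; exact KilledNear.zero)
    have hrw' : r ∉ w' := fun h => hr (by
      rw [Ideal.mem_comap, RingHom.mem_ker]
      show ((qL.comp θ).comp bp) r = 0
      rw [← hνθ]
      exact Ideal.algebraMap_residueField_eq_zero.mpr h)
    obtain ⟨r, rfl⟩ := hps r
    refine ⟨ε i j * r, fun h => ?_, ?_⟩
    · rcases hw.mem_or_mem h with h | h
      · exact hij h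
      · exact hrw' (Ideal.mem_map_of_mem p h)
    · rw [mul_smul, hετ', push_smul, hp, hr0, map_zero]
  have hcovP : ∀ q : Ideal S, q.IsPrime → J ≤ q → ∃ Q : Ideal P, Q.IsPrime ∧ Q.comap (algebraMap S P) = q := by
    intro q hq hJq
    obtain ⟨i, hi⟩ := hcov q hq hJq
    obtain ⟨Q, hQ, hQq⟩ := hpr i q hq hJq hi
    exact ⟨Q.comap (π i), Ideal.IsPrime.comap _, by rw [← hQq]; rfl⟩
  obtain ⟨m, hm, -⟩ := existsUnique_descent z J hcovP hd
  have hunit : ∀ i, ∀ y : oneAdd P J, IsUnit (((φ i).comp (π i)) y) := by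
    intro i y
    haveI := (hB i).2.1
    refine Groth.Agent.Lib.Henselian.Basic.isUnit_of_sub_one_mem (HenselianRing.jac (I := J.map (algebraMap S (B i)))) ?_
    have := Ideal.mem_map_of_mem ((φ i).comp (π i)).toRingHom (show (y : P) - 1 ∈ J.map (algebraMap S P) from y.2)
    rw [Ideal.map_map, AlgHom.toRingHom_eq_coe, AlgHom.comp_algebraMap] at this
    simpa using this
  have hti : ∀ i, (1 : B i) ⊗ₜ[S] m = t i := by
    intro i
    let l : Zar P J →ₐ[S] B i := IsLocalization.liftAlgHom (M := oneAdd P J) (f := (φ i).comp (π i)) (hunit i)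
    have h1 := congrArg (push M l) hm
    have h2 : l.comp (IsScalarTower.toAlgHom S P (Zar P J)) = (φ i).comp (π i) :=
      AlgHom.ext fun x => IsLocalization.lift_eq _ x
    rw [push_push, h2, ← push_push, hz i, hs i] at h1
    rw [← h1]
    simp
  refine ⟨m, hti, fun m' hm' => sub_eq_zero.mp (eq_zero_of_forall g hcov B hB _ fun i => ?_)⟩
  rw [TensorProduct.tmul_sub, hm' i, hti i, sub_self]

end Groth.Agent.Lib.HensSch.FamilyDescent
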