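import Groth.Agent.Lib.HensSch.Lift
import Groth.Agent.Lib.RingedMod.Pullback
import Groth.Agent.Lib.QCoh.Tilde
import Mathlib.RingTheory.Flat.EquationalCriterion

/-!
# The Henselization is flat; exactness of inverse image
-/

universe u

open CategoryTheory Limits Opposite TopologicalSpace AlgebraicGeometry Topology

set_option linter.style.haveILetI false

namespace Groth.Agent.Lib.HensSch.Flat

open Groth.Agent.Lib.HensSch.Sections Groth.Agent.Lib.HensSch.Lift

variable {X Xh : LocallyRingedSpace.{u}} (ι : Xh ⟶ X)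

/-- The map on sections, with the inverse image open spelled out. -/
noncomputable abbrev sa (U : Opens X) :
    (X.presheaf.obj (op U) : Type u) →+* (Xh.presheaf.obj (op ((Opens.map ι.base).obj U)) : Type u) :=
  (ι.c.app (op U)).hom

theorem flat_stalkMap_of_basis (hι : IsInducing ι.base)
    (hb : ∀ (W : Opens X) (x : X), x ∈ W → ∃ U, (sa ι U).Flat ∧ x ∈ U ∧ U ≤ W)
    (y : Xh) : (RingedMod.Pullback.sm ι y).Flat := by
  letI := (RingedMod.Pullback.sm ι y).toAlgebra
  show Module.Flat _ _
  rw [Module.Flat.iff_forall_isTrivialRelation]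
  intro l f a h
  have h' : ∑ i, RingedMod.Pullback.sm ι y (f i) * a i = 0 :=
    (Finset.sum_congr rfl fun i _ => (Algebra.smul_def (f i) (a i)).symm).trans h
  -- representatives on a common open of `X`
  choose Uf hUf r hr using fun i => TopCat.Presheaf.exists_germ_eq X.presheaf (f i)
  choose Oa hOa p hp using fun i => TopCat.Presheaf.exists_germ_eq Xh.presheaf (a i)
  choose Va hVa hVaO using fun i => hι.isOpen_iff.mp (Oa i).2
  let W : Opens X := Finset.univ.inf fun i => Uf i ⊓ ⟨Va i, hVa i⟩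
  have hW : ι.base y ∈ W :=
    Finset.inf_induction (p := fun V : Opens X => ι.base y ∈ V) trivial (fun V hV V' hV' => ⟨hV, hV'⟩)
      fun i _ => ⟨hUf i, (hVaO i).ge (hOa i)⟩
  have hWU : ∀ i, W ≤ Uf i := fun i => (Finset.inf_le (Finset.mem_univ i)).trans inf_le_left
  have hWO : ∀ i, (Opens.map ι.base).obj W ≤ Oa i := fun i z hz =>
    (hVaO i).le ((Finset.inf_le (Finset.mem_univ i) : W ≤ Uf i ⊓ ⟨Va i, hVa i⟩) hz).2
  let r' : Fin l → X.presheaf.obj (op W) := fun i => (X.presheaf.map (homOfLE (hWU i)).op).hom (r i)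
  let p' : Fin l → Xh.presheaf.obj (op ((Opens.map ι.base).obj W)) :=
    fun i => (Xh.presheaf.map (homOfLE (hWO i)).op).hom (p i)
  have hr' : ∀ i, X.presheaf.germ W (ι.base y) hW (r' i) = f i := fun i =>
    (TopCat.Presheaf.germ_res_apply X.presheaf _ _ _ _).trans (hr i)
  have hp' : ∀ i, Xh.presheaf.germ ((Opens.map ι.base).obj W) y hW (p' i) = a i := fun i =>
    (TopCat.Presheaf.germ_res_apply Xh.presheaf _ _ _ _).trans (hp i)
  let z : Xh.presheaf.obj (op ((Opens.map ι.base).obj W)) :=
    ∑ i, sa ι W (r' i) * p' i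
  have hz : Xh.presheaf.germ ((Opens.map ι.base).obj W) y hW z =
      Xh.presheaf.germ ((Opens.map ι.base).obj W) y hW 0 := by
    rw [map_zero, map_sum]
    refine Eq.trans (Finset.sum_congr rfl fun i _ => ?_) h'
    rw [map_mul, hp' i]
    refine congrArg (· * a i) ?_
    rw [← hr' i]
    exact (LocallyRingedSpace.stalkMap_germ_apply ι W y hW (r' i)).symm
  obtain ⟨O, hyO, iO, jO, hO⟩ := TopCat.Presheaf.germ_eq Xh.presheaf y hW hW _ _ hz
  obtain ⟨V, hV, hVO⟩ := hι.isOpen_iff.mp O.2
  obtain ⟨U, hU, hyU, hUW⟩ := hb (W ⊓ ⟨V, hV⟩) (ι.base y) ⟨hW, hVO.ge hyO⟩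
  have hUW' : U ≤ W := hUW.trans inf_le_left
  have hUO : (Opens.map ι.base).obj U ≤ O := fun w hw => hVO.le (hUW hw).2
  letI := (sa ι U).toAlgebra
  haveI hF : Module.Flat (X.presheaf.obj (op U)) (Xh.presheaf.obj (op ((Opens.map ι.base).obj U))) := hU
  let ρ := (Xh.presheaf.map (homOfLE (fun w hw => hUW' hw) :
    (Opens.map ι.base).obj U ⟶ (Opens.map ι.base).obj W).op).hom
  have hsum : ∑ i, (X.presheaf.map (homOfLE hUW').op).hom (r' i) • ρ (p' i) = 0 := by
    have h1 : ρ z = 0 := by
      have h2 : ρ z = (Xh.presheaf.map (homOfLE hUO).op).hom ((Xh.presheaf.map iO.op).hom z) := by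
        show _ = (Xh.presheaf.map iO.op ≫ Xh.presheaf.map (homOfLE hUO).op).hom z
        rw [← Functor.map_comp]
        exact congrArg (fun k => (Xh.presheaf.map k).hom z) (Subsingleton.elim _ _)
      rw [h2]
      refine (congrArg (Xh.presheaf.map (homOfLE hUO).op).hom hO).trans ?_
      exact (congrArg (Xh.presheaf.map (homOfLE hUO).op).hom (map_zero (Xh.presheaf.map jO.op).hom)).trans
        (map_zero _)
    rw [← h1, map_sum]
    refine Finset.sum_congr rfl fun i _ => ?_
    refine (Algebra.smul_def _ _).trans (Eq.trans (congrArg (· * ρ (p' i)) ?_) (map_mul ρ _ _).symm)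
    exact congrArg (fun k => k.hom (r' i)) (ι.c.naturality (homOfLE hUW').op)
  obtain ⟨n, A, b, hb₁, hA⟩ := (Module.Flat.iff_forall_isTrivialRelation.1 hF) hsum
  refine ⟨n, fun k m => X.presheaf.germ U (ι.base y) hyU (A k m),
    fun m => Xh.presheaf.germ ((Opens.map ι.base).obj U) y hyU (b m), fun k => ?_, fun m => ?_⟩
  · refine ((hp' k).symm.trans (TopCat.Presheaf.germ_res_apply Xh.presheaf _ _ hyU _).symm).trans
      ((congrArg (Xh.presheaf.germ ((Opens.map ι.base).obj U) y hyU).hom (hb₁ k)).trans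
        ((map_sum _ _ _).trans (Finset.sum_congr rfl fun m _ => ?_)))
    refine ((congrArg _ (Algebra.smul_def (R := X.presheaf.obj (op U))
      (A := Xh.presheaf.obj (op ((Opens.map ι.base).obj U))) (A k m) (b m))).trans (map_mul _ _ _)).trans ?_
    refine Eq.trans ?_ (Algebra.smul_def (R := RingedMod.Stalk.Ox X.sheaf (ι.base y))
      (A := RingedMod.Stalk.Ox Xh.sheaf y) _ _).symm
    exact congrArg (· * _) (LocallyRingedSpace.stalkMap_germ_apply ι U y hyU (A k m)).symm
  · refine Eq.trans (Finset.sum_congr rfl fun k _ => ?_)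
      ((map_sum (X.presheaf.germ U (ι.base y) hyU).hom _ _).symm.trans
        ((congrArg _ (hA m)).trans (map_zero _)))
    refine (congrArg (· * _) ((hr' k).symm.trans
      (TopCat.Presheaf.germ_res_apply X.presheaf (homOfLE hUW') _ hyU (r' k)).symm)).trans ?_
    exact (map_mul (X.presheaf.germ U (ι.base y) hyU).hom _ _).symm

/-- Inverse image along the Henselization is exact. -/
theorem preservesFiniteLimits_pullMod {X : Scheme.{u}} {Y : Set X} {Xh : LocallyRingedSpace.{u}}
    {ι : Xh ⟶ X.toLocallyRingedSpace} (hh : _root_.HensSch.IsHenselizationAlong X Y Xh ι) :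
    PreservesFiniteLimits (_root_.HensSch.pullMod ι) := by
  refine RingedMod.Pullback.preservesFiniteLimits_pullMod ι
    (flat_stalkMap_of_basis ι hh.2.1.isInducing fun W x hx => ?_)
  obtain ⟨U, hU, hxU, hUW⟩ := exists_good_flat hh hx
  exact ⟨U, hU.2, hxU, hUW⟩

/-- The structure map of an affine Henselian spectrum is flat on stalks. -/
theorem flat_stalkMap_sph {A : Type u} [CommRing A] {I : Ideal A} {X : LocallyRingedSpace.{u}}
    {π : X ⟶ _root_.HensSch.specLRS A} (hX : _root_.HensSch.IsSph A I X π) (y : X) :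
    (RingedMod.Pullback.sm π y).Flat := by
  refine flat_stalkMap_of_basis π hX.1.isInducing (fun W x hx => ?_) y
  obtain ⟨_, ⟨f, rfl⟩, hxf, hfW⟩ :=
    PrimeSpectrum.isTopologicalBasis_basic_opens.exists_subset_of_mem_open
      (show x ∈ (W : Set _) from hx) W.2
  refine ⟨bas A f, ?_, hxf, hfW⟩
  exact flat_of_away I f (toSec A _) (isLocalization_toSec A rfl) _ (hX.2.2 f) _ (RingEquiv.refl _)
    (app_comp_toSec π _)

/-- `M ↦ M~` on an affine Henselian spectrum is exact. -/
theorem preservesFiniteLimits_sphTildeFunctor {A : Type u} [CommRing A] {I : Ideal A}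
    {X : LocallyRingedSpace.{u}} {π : X ⟶ _root_.HensSch.specLRS A}
    (hX : _root_.HensSch.IsSph A I X π) :
    PreservesFiniteLimits (_root_.HensSch.sphTildeFunctor π) :=
  @comp_preservesFiniteLimits _ _ _ _ _ _ _ _
    (Groth.Agent.Lib.QCoh.Tilde.tildeFunctor_preservesFiniteLimits (R := CommRingCat.of A))
    (RingedMod.Pullback.preservesFiniteLimits_pullMod π (flat_stalkMap_sph hX))

end Groth.Agent.Lib.HensSch.Flat
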