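import Groth.Agent.Lib.HensSch.Lift
import Groth.Agent.H78.Formal.Sections
import Groth.Agent.H48.PairNoeth
import Groth.Agent.Lib.Henselian.PairUP

/-!
# Good affine charts of the Henselization along `V(I)`

For a scheme `X` over `Spec A` and its Henselization along the preimage of `V(I)`: there is a basis at the
points over `V(I)` of affine opens `U` for which `B = O(ι⁻¹ U)` is the Henselization of the pair
`(Γ(X, U), I Γ(X, U))` up to radical; `B = Γ(X, U) + I^n B`, `B` is Noetherian if `Γ(X, U)` is.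
-/

universe u

open CategoryTheory Opposite TopologicalSpace AlgebraicGeometry
open Groth.Agent.Lib.HensSch.Sections Groth.Agent.Lib.HensSch.Lift Groth.Agent.H78.Formal.Sections
open Groth.Agent.Lib.Henselian.Basic

set_option linter.style.haveILetI false

namespace Groth.Agent.Lib.HensSch.FormalChart

variable {A : Type u} [CommRing A] {X : Scheme.{u}} [X.Over (Spec (CommRingCat.of A))] (I : Ideal A)

/-- The preimage of `V(I)`. -/
abbrev VI : Set X := (X ↘ Spec (CommRingCat.of A)).base ⁻¹' PrimeSpectrum.zeroLocus (I : Set A)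

variable {I}

lemma mem_basicOpen_sMap {U : X.Opens} {x : X} (hx : x ∈ U) (a : A) :
    x ∈ X.basicOpen (sMap A U a) ↔ a ∉ ((X ↘ Spec (CommRingCat.of A)).base x).asIdeal := by
  let s := X ↘ Spec (CommRingCat.of A)
  have h : sMap A U a = X.presheaf.map (homOfLE (le_top : U ≤ ⊤)).op (sMap A ⊤ a) :=
    (res_sMap (le_top : U ≤ ⊤) a).symm
  rw [h, Scheme.basicOpen_res]
  show x ∈ U ⊓ _ ↔ _
  have hc : X.basicOpen (sMap A ⊤ a) = s ⁻¹ᵁ PrimeSpectrum.basicOpen a := by
    have h1 : sMap A ⊤ a = s.appTop ((Scheme.ΓSpecIso (CommRingCat.of A)).inv a) := by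
      show Coh.resTop X (op ⊤) (Coh.toGlobal s a) = _
      exact congrArg (fun l => (X.presheaf.map l).hom (Coh.toGlobal s a))
        (Subsingleton.elim _ (𝟙 (op (⊤ : X.Opens)))) |>.trans (by rw [X.presheaf.map_id]; rfl)
    rw [h1]
    exact (Scheme.preimage_basicOpen_top s _).symm.trans (congrArg (s ⁻¹ᵁ ·) (basicOpen_eq_of_affine (R := CommRingCat.of A) a))
  rw [hc]
  exact ⟨fun h => h.2, fun h => ⟨hx, h⟩⟩

lemma mem_VI_iff {U : X.Opens} {x : X} (hx : x ∈ U) :
    x ∈ VI I ↔ ∀ a ∈ I, x ∉ X.basicOpen (sMap A U a) := by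
  constructor
  · intro h a ha hb
    exact (mem_basicOpen_sMap hx a).mp hb (h ha)
  · intro h a ha
    by_contra hn
    exact h a ha ((mem_basicOpen_sMap hx a).mpr hn)

lemma sIdeal_le_van (U : X.Opens) :
    sIdeal I U ≤ van X.toLocallyRingedSpace U (VI I) :=
  Ideal.map_le_iff_le_comap.mpr fun a ha => mem_van.mpr fun x hx hY hb =>
    (mem_VI_iff hx).mp hY a ha hb

lemma van_le_radical_sIdeal {U : X.Opens} (hU : IsAffineOpen U) :
    van X.toLocallyRingedSpace U (VI I) ≤ (sIdeal I U).radical := by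
  intro f hf
  rw [Ideal.radical_eq_sInf, Submodule.mem_sInf]
  rintro P ⟨hP, hPp⟩
  let p : Spec Γ(X, U) := ⟨P, hPp⟩
  have hmem : hU.fromSpec p ∈ U := by
    have := Set.mem_range_self (f := hU.fromSpec) p
    rwa [hU.range_fromSpec] at this
  have key : ∀ g : Γ(X, U), hU.fromSpec p ∈ X.basicOpen g ↔ g ∉ P := fun g => by
    show p ∈ hU.fromSpec ⁻¹ᵁ X.basicOpen g ↔ _
    rw [hU.fromSpec_preimage_basicOpen]
    exact Iff.rfl
  have hY : hU.fromSpec p ∈ VI I := (mem_VI_iff hmem).mpr fun a ha hb =>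
    (key _).mp hb (hP (mem_sIdeal ha))
  by_contra hn
  exact mem_van.mp hf _ hmem hY ((key f).mpr hn)

variable {Xh : LocallyRingedSpace.{u}} {ι : Xh ⟶ X.toLocallyRingedSpace}

/-- Sections on the inverse image of an open of `X`. -/
abbrev Sh (ι : Xh ⟶ X.toLocallyRingedSpace) (U : X.Opens) : Type u :=
  Xh.presheaf.obj (op ((Opens.map ι.base).obj U))

/-- The map on sections of the Henselization. -/
noncomputable abbrev φ (ι : Xh ⟶ X.toLocallyRingedSpace) (U : X.Opens) : Γ(X, U) →+* Sh ι U :=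
  (ι.c.app (op U)).hom

theorem exists_good {Y : Set X} (hh : _root_.HensSch.IsHenselizationAlong X Y Xh ι) {W : X.Opens}
    {x : X} (hx : x ∈ W) (hxY : x ∈ Y) :
    ∃ U : X.Opens, IsAffineOpen U ∧ Good ι Y U ∧ x ∈ U ∧ U ≤ W := by
  obtain ⟨R, _, j, hj, ⟨p, rfl⟩, V, v, hv, π, hr, hc, hV⟩ := hh.2.2.2 x hxY
  haveI := hj; haveI := hv
  obtain ⟨_, ⟨f, rfl⟩, hpf, hfW⟩ := PrimeSpectrum.isTopologicalBasis_basic_opens.exists_subset_of_mem_open
    (show p ∈ ((Opens.map j.base).obj W : Set _) from hx) ((Opens.map j.base).obj W).2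
  refine ⟨j ''ᵁ PrimeSpectrum.basicOpen f, (IsAffineOpen.Spec_basicOpen f).image_of_isOpenImmersion j, ?_,
    ⟨p, hpf, rfl⟩, ?_⟩
  · haveI : LocallyRingedSpace.IsOpenImmersion j.toLRSHom := hj
    refine (good_and_flat_of_chart ι Y (U := j ''ᵁ PrimeSpectrum.basicOpen f) j.toLRSHom v π hr hc _ ?_ hV f (Set.image_subset_range _ _)
      (Opens.ext (Set.preimage_image_eq _ j.isOpenEmbedding.injective))).1
    intro a ha q hq
    exact (PrimeSpectrum.mem_vanishingIdeal _ _).mp ha q hq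
  · rintro _ ⟨q, hq, rfl⟩
    exact hfW hq

/-- Vanishing elements of a Henselization form a Henselian pair. -/
theorem henselianRing_van_Xh {Y : Set X} (hh : _root_.HensSch.IsHenselizationAlong X Y Xh ι)
    (O : Opens Xh.toTopCat) : HenselianRing (Xh.presheaf.obj (op O)) (van Xh O Set.univ) := by
  refine henselianRing_van_of_basis (fun z W hz => ?_) O
  obtain ⟨R, _, j, hj, hxj, V, v, hv, π, hr, hc, hV⟩ :=
    hh.2.2.2 (ι.base z) (hh.2.2.1.le ⟨z, rfl⟩)
  haveI := hv
  obtain ⟨x, rfl⟩ : z ∈ Set.range v.base := hr.ge hxj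
  obtain ⟨O', hO', hOW⟩ := hV.1.isInducing.isOpen_iff.mp ((Opens.map v.base).obj W).2
  have hxO : π.base x ∈ O' := hOW.ge hz
  obtain ⟨_, ⟨f, rfl⟩, hxf, hfO⟩ :=
    PrimeSpectrum.isTopologicalBasis_basic_opens.exists_subset_of_mem_open hxO hO'
  let V' : Opens Xh := (LocallyRingedSpace.IsOpenImmersion.opensFunctor v).obj (_root_.HensSch.dOpen π f)
  have hinj : Function.Injective v.base := hv.base_open.injective
  refine ⟨V', ?_, ⟨x, hxf, rfl⟩, ?_⟩
  · rintro _ ⟨y, hy, rfl⟩
    exact hOW.le (hfO hy)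
  · haveI : HenselianRing (V.presheaf.obj (op ((Opens.map v.base).obj V')))
        (van V ((Opens.map v.base).obj V') Set.univ) :=
      henselianRing_van_dOpen hV (f := f) (Opens.ext (Set.preimage_image_eq _ hinj))
    exact henselianRing_van_of_isOpenImmersion v V' (Set.image_subset_range _ _)

section Chart

variable (hh : _root_.HensSch.IsHenselizationAlong X (VI I) Xh ι) {U : X.Opens}

include hh

lemma van_map_le :
    (van X.toLocallyRingedSpace U (VI I)).map (φ ι U) ≤ van Xh ((Opens.map ι.base).obj U) Set.univ :=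
  Ideal.map_le_iff_le_comap.mpr fun a ha =>
    app_mem_van ι (fun x _ _ => hh.2.2.1.le ⟨x, rfl⟩) ha

lemma map_sIdeal_le_jacobson :
    (sIdeal I U).map (φ ι U) ≤ Ideal.jacobson ⊥ :=
  (Ideal.map_mono (sIdeal_le_van U)).trans ((van_map_le hh).trans (van_le_jacobson _))

/-- `O(ι⁻¹ U)` is Noetherian. -/
theorem isNoetherianRing_sh [IsNoetherianRing Γ(X, U)] (hg : Good ι (VI I) U) :
    IsNoetherianRing (Sh ι U) := by
  letI : Algebra Γ(X, U) (Sh ι U) := (φ ι U).toAlgebra
  haveI := henselianRing_van_Xh hh ((Opens.map ι.base).obj U)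
  refine Groth.Agent.H48.PairNoeth.isNoetherianRing (I := van X.toLocallyRingedSpace U (VI I)) ?_
  exact ⟨henselianRing_of_le (van_map_le hh), fun C _ J f hJ hf => hg C J f hJ hf⟩

omit hh in
/-- `O(ι⁻¹ U) = Γ(X, U) + I^n O(ι⁻¹ U)`. -/
theorem exists_sub_mem_pow [IsNoetherianRing Γ(X, U)] (hU : IsAffineOpen U) (hg : Good ι (VI I) U)
    (n : ℕ) (b : Sh ι U) :
    ∃ r : Γ(X, U), b - φ ι U r ∈ (sIdeal I U ^ n).map (φ ι U) := by
  let J := van X.toLocallyRingedSpace U (VI I)
  have step : ∀ (k : ℕ) (b : Sh ι U), ∃ r : Γ(X, U), b - φ ι U r ∈ (J ^ k).map (φ ι U) := by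
    intro k
    induction k with
    | zero => exact fun b => ⟨0, by rw [pow_zero, Ideal.one_eq_top, Ideal.map_top]; trivial⟩
    | succ k ih =>
      intro b
      obtain ⟨r, hr⟩ := ih b
      have hle : ∀ y ∈ (J ^ k).map (φ ι U), ∃ a, y - φ ι U a ∈ (J ^ (k + 1)).map (φ ι U) := by
        intro y hy
        induction hy using Submodule.span_induction with
        | mem y hy =>
          obtain ⟨a, ha, rfl⟩ := hy
          exact ⟨a, by rw [sub_self]; exact zero_mem _⟩
        | zero => exact ⟨0, by rw [map_zero, sub_zero]; exact zero_mem _⟩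
        | add y z _ _ hy hz =>
          obtain ⟨a, ha⟩ := hy
          obtain ⟨c, hc⟩ := hz
          refine ⟨a + c, ?_⟩
          rw [map_add, add_sub_add_comm]
          exact add_mem ha hc
        | smul c y hy' hy =>
          obtain ⟨a, ha⟩ := hy
          obtain ⟨c₀, hc₀⟩ := hg.exists_sub_mem c
          refine ⟨c₀ * a, ?_⟩
          have e : c • y - φ ι U (c₀ * a) = c * (y - φ ι U a) + (c - φ ι U c₀) * φ ι U a := by
            rw [smul_eq_mul, map_mul]; ring
          rw [e]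
          refine add_mem (Ideal.mul_mem_left _ c ha) ?_
          have hya : φ ι U a ∈ (J ^ k).map (φ ι U) := by
            have : φ ι U a = y - (y - φ ι U a) := by ring
            rw [this]
            exact sub_mem hy' (Ideal.map_mono (Ideal.pow_le_pow_right (Nat.le_succ k)) ha)
          rw [pow_succ', Ideal.map_mul]
          exact Ideal.mul_mem_mul hc₀ hya
      obtain ⟨a, ha⟩ := hle _ hr
      refine ⟨r + a, ?_⟩
      rw [map_add, ← sub_sub]
      exact ha
  obtain ⟨k, hk⟩ := Ideal.exists_pow_le_of_le_radical_of_fg (van_le_radical_sIdeal (I := I) hU)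
    (IsNoetherian.noetherian J)
  obtain ⟨r, hr⟩ := step (k * n) b
  refine ⟨r, Ideal.map_mono ?_ hr⟩
  rw [pow_mul]
  exact pow_le_pow_left' hk n

end Chart

end Groth.Agent.Lib.HensSch.FormalChart
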