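import Groth.Agent.Lib.HensSch.FormalUnit
import Groth.Agent.H78.Formal.Compl

/-!
# Global sections and full faithfulness on the Henselization, reduced to formal functions
-/

universe u

open CategoryTheory Limits Opposite TopologicalSpace AlgebraicGeometry
open Groth.Agent.Lib.RingedMod Groth.Agent.Lib.RingedMod.Stalk
open Groth.Agent.H78.Formal.Sections Groth.Agent.H78.Formal.Sys Groth.Agent.H78.Formal.Elem
open Groth.Agent.Lib.HensSch.FormalChart Groth.Agent.Lib.HensSch.FormalUnit

set_option linter.style.haveILetI false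
set_option backward.isDefEq.respectTransparency false

namespace Groth.Agent.Lib.HensSch.FormalFF

variable {A : Type u} [CommRing A] {X : Scheme.{u}} [X.Over (Spec (CommRingCat.of A))] {I : Ideal A}
variable {Xh : LocallyRingedSpace.{u}} {ι : Xh ⟶ X.toLocallyRingedSpace}
variable [IsLocallyNoetherian X] (hh : _root_.HensSch.IsHenselizationAlong X (VI I) Xh ι)
include hh

omit [IsLocallyNoetherian X] hh in
lemma gsMap_comp {N N' N'' : MD Xh.sheaf} (f : N ⟶ N') (g : N' ⟶ N'') (U : X.Opens) (t : GS ι N U) :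
    gsMap ι (f ≫ g) U t = gsMap ι g U (gsMap ι f U t) := rfl

lemma uSec_bijective_of_killed {n : ℕ} {M : X.Modules} (hM : _root_.Formal.KilledBy (I ^ n) M)
    (U : X.Opens) : Function.Bijective (uSec ι M U) := by
  haveI := isIso_unit hh hM
  exact app_bijective (unitHom ι M) U

/-- Global sections of a coherent module and of its inverse image, given formal functions. -/
theorem bijective_uSec_top {F : X.Modules} (hF : Coh.IsCoh F)
    (hinj : ∀ s : Γ(F, ⊤), (∀ n, (_root_.Formal.modPowπ I (n + 1) F).app ⊤ s = 0) → s = 0)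
    (hsurj : ∀ c : ∀ n, Γ(_root_.Formal.modPow I (n + 1) F, ⊤),
      (∀ n, (_root_.Formal.modPowTrans I (n + 1) F).app ⊤ (c (n + 1)) = c n) →
      ∃ s : Γ(F, ⊤), ∀ n, (_root_.Formal.modPowπ I (n + 1) F).app ⊤ s = c n) :
    Function.Bijective (uSec ι F ⊤) := by
  have hb := fun n => uSec_bijective_of_killed hh
    (killedBy_modPow (I := I) (n + 1) F) (⊤ : X.Opens)
  refine ⟨(injective_iff_map_eq_zero _).mpr fun s hs => hinj s fun n => (hb n).1 ?_, fun t => ?_⟩
  · rw [uSec_natural, hs, map_zero, map_zero]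
  choose c hc using fun n => (hb n).2 (gsMap ι (plMap ι (_root_.Formal.modPowπ I (n + 1) F)) ⊤ t)
  obtain ⟨s, hs⟩ := hsurj c fun n => (hb n).1 (by
    rw [uSec_natural, hc, hc, ← gsMap_comp]
    refine congrArg (fun k => gsMap ι k ⊤ t) ?_
    rw [plMap, plMap, plMap, ← Functor.map_comp]
    exact congrArg _ (_root_.Formal.modPowπ_trans I (n + 1) F))
  refine ⟨s, (sub_eq_zero.mp ?_).symm⟩
  have hall : ∀ n, gsMap ι (plMap ι (_root_.Formal.modPowπ I (n + 1) F)) ⊤ (t - uSec ι F ⊤ s) = 0 :=
    fun n => by rw [map_sub, ← uSec_natural, hs, hc, sub_self]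
  refine eq_zero_of_forall hh hF ⊤ _ fun n => ?_
  cases n with
  | zero =>
    have e : _root_.Formal.modPowπ I 0 F = _root_.Formal.modPowπ I (0 + 1) F ≫ _root_.Formal.modPowTrans I 0 F :=
      (_root_.Formal.modPowπ_trans I 0 F).symm
    rw [e, plMap, Functor.map_comp, gsMap_comp]
    exact (congrArg _ (hall 0)).trans (map_zero _)
  | succ n => exact hall n

/-- Two maps `ι^* F ⟶ ι^* G` agreeing in every `ι^*(G / I^n G)` are equal. -/
theorem hom_ext_of_forall {N : MD Xh.sheaf} {G : X.Modules} (hG : Coh.IsCoh G) {a b : N ⟶ pl ι G}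
    (h : ∀ n, a ≫ plMap ι (_root_.Formal.modPowπ I (n + 1) G) = b ≫ plMap ι (_root_.Formal.modPowπ I (n + 1) G)) :
    a = b := by
  have hz : ∀ n, (a - b) ≫ plMap ι (_root_.Formal.modPowπ I n G) = 0 := fun n => by
    rw [Preadditive.sub_comp, sub_eq_zero]
    cases n with
    | zero =>
      rw [plMap, ← _root_.Formal.modPowπ_trans I 0 G, Functor.map_comp, ← Category.assoc, ← Category.assoc]
      exact congrArg (· ≫ _) (h 0)
    | succ n => exact h n
  rw [← sub_eq_zero]
  refine hom_ext_stk fun y => ?_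
  refine ModuleCat.hom_ext (LinearMap.ext fun v => ?_)
  obtain ⟨O, hyO, p, rfl⟩ := exists_germ (P := (toP Xh.sheaf).obj N) v
  obtain ⟨W, hW, hWO⟩ := hh.2.1.isInducing.isOpen_iff.mp O.2
  have hO : (Opens.map ι.base).obj (⟨W, hW⟩ : X.Opens) = O := Opens.ext hWO
  subst hO
  refine (stMap_germ ((toP Xh.sheaf).map (a - b)) hyO p).trans (Eq.trans ?_ (stMap_germ _ hyO p).symm)
  refine congrArg (germ (P := (toP Xh.sheaf).obj (pl ι G)) hyO) ?_
  refine eq_zero_of_forall hh hG ⟨W, hW⟩ (gsMap ι (a - b) ⟨W, hW⟩ p) fun n => ?_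
  exact (gsMap_comp (a - b) (plMap ι (_root_.Formal.modPowπ I n G)) ⟨W, hW⟩ p).symm.trans
    (congrArg (fun k => gsMap ι k ⟨W, hW⟩ p) (hz n))

/-- Full faithfulness of inverse image on coherent modules, given formal full faithfulness. -/
theorem bijective_map {F G : X.Modules} (hF : Coh.IsCoh F) (hG : Coh.IsCoh G)
    (hFF : ∀ ψ : _root_.Formal.completion I F ⟶ _root_.Formal.completion I G,
      ∃! φ : F ⟶ G, ∀ n : ℕ, _root_.Formal.modPowπ I (n + 1) F ≫ ψ.app (op n) =
        φ ≫ _root_.Formal.modPowπ I (n + 1) G) :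
    Function.Bijective (fun φ : F ⟶ G => plMap ι φ) := by
  haveI := hF.1
  haveI := hG.1
  let adj := _root_.HensSch.pullPushAdj ι
  haveI : ∀ n : ℕ, IsIso (unitHom ι (_root_.Formal.modPow I (n + 1) G)) := fun n =>
    isIso_unit hh (killedBy_modPow (n + 1) G)
  have inj : ∀ (n : ℕ) (f g : F ⟶ _root_.Formal.modPow I (n + 1) G), plMap ι f = plMap ι g → f = g := by
    intro n f g e
    rw [← cancel_mono (unitHom ι (_root_.Formal.modPow I (n + 1) G))]
    exact (adj.unit.naturality f).trans ((congrArg (fun k => adj.unit.app F ≫ (_root_.HensSch.pushMod ι).map k) e).trans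
      (adj.unit.naturality g).symm)
  have surj : ∀ (n : ℕ) (k : pl ι F ⟶ pl ι (_root_.Formal.modPow I (n + 1) G)), ∃ f, plMap ι f = k := by
    intro n k
    refine ⟨adj.homEquiv _ _ k ≫ inv (unitHom ι (_root_.Formal.modPow I (n + 1) G)), ?_⟩
    refine (adj.homEquiv _ _).injective ?_
    rw [Adjunction.homEquiv_unit]
    refine (adj.unit.naturality _).symm.trans ?_
    rw [Functor.id_map, Category.assoc, IsIso.inv_hom_id, Category.comp_id]
  refine ⟨fun φ φ' e => ?_, fun ψ => ?_⟩
  · let T : ∀ n, (_root_.Formal.completion I F).obj (op n) ⟶ (_root_.Formal.completion I G).obj (op n) :=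
      fun n => cokernel.desc _ (φ ≫ _root_.Formal.modPowπ I (n + 1) G) (by
        refine Sigma.hom_ext _ _ fun a => ?_
        simp only [_root_.Formal.smulFamily, Sigma.ι_desc_assoc, comp_zero]
        rw [← Category.assoc, smulMod_comp, Category.assoc]
        exact (congrArg (φ ≫ ·) (smulMod_π _ G a.2)).trans comp_zero)
    have hT : ∀ n, cπ I F n ≫ T n = φ ≫ cπ I G n := fun n => cokernel.π_desc _ _ _
    have hnat : ∀ ⦃i j : ℕᵒᵖ⦄ (f : i ⟶ j), (_root_.Formal.completion I F).map f ≫ T j.unop =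
        T i.unop ≫ (_root_.Formal.completion I G).map f := by
      rintro ⟨m⟩ ⟨n⟩ f
      haveI : Epi (cπ I F m) := inferInstanceAs (Epi (cokernel.π _))
      rw [← cancel_epi (cπ I F m), ← Category.assoc, ← Category.assoc, hT,
        show f = (homOfLE (leOfHom f.unop)).op from rfl, cπ_comp, Category.assoc, cπ_comp, hT]
    obtain ⟨χ, -, hu⟩ := hFF { app := fun i => T i.unop, naturality := hnat }
    refine (hu φ fun n => hT n).trans (hu φ' fun n => ?_).symm
    refine (hT n).trans (inj n _ _ ?_)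
    rw [plMap, plMap, Functor.map_comp, Functor.map_comp]
    exact congrArg (· ≫ _) e
  · choose f hf using fun n => surj n (ψ ≫ plMap ι (_root_.Formal.modPowπ I (n + 1) G))
    let T : ∀ n, (_root_.Formal.completion I F).obj (op n) ⟶ (_root_.Formal.completion I G).obj (op n) :=
      fun n => cokernel.desc _ (f n) (by
        refine Sigma.hom_ext _ _ fun a => ?_
        simp only [_root_.Formal.smulFamily, Sigma.ι_desc_assoc, comp_zero]
        exact (smulMod_comp (f n) a.1).trans ((congrArg (f n ≫ ·) (killedBy_modPow (n + 1) G a.1 a.2)).trans comp_zero))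
    have hT : ∀ n, cπ I F n ≫ T n = f n := fun n => cokernel.π_desc _ _ _
    have hnat : ∀ ⦃i j : ℕᵒᵖ⦄ (g : i ⟶ j), (_root_.Formal.completion I F).map g ≫ T j.unop =
        T i.unop ≫ (_root_.Formal.completion I G).map g := by
      rintro ⟨m⟩ ⟨n⟩ g
      haveI : Epi (cπ I F m) := inferInstanceAs (Epi (cokernel.π _))
      rw [← cancel_epi (cπ I F m), ← Category.assoc, ← Category.assoc, hT,
        show g = (homOfLE (leOfHom g.unop)).op from rfl, cπ_comp, hT]
      refine inj n _ _ ?_
      rw [hf n]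
      refine Eq.trans ?_ ((_root_.HensSch.pullMod ι).map_comp _ _).symm
      rw [show (_root_.HensSch.pullMod ι).map (f m) = _ from hf m, Category.assoc]
      refine congrArg (ψ ≫ ·) ?_
      refine Eq.trans ?_ ((_root_.HensSch.pullMod ι).map_comp _ _)
      exact congrArg _ (cπ_comp I G (leOfHom g.unop)).symm
    obtain ⟨χ, hχ, -⟩ := hFF { app := fun i => T i.unop, naturality := hnat }
    refine ⟨χ, hom_ext_of_forall hh hG fun n => ?_⟩
    refine ((_root_.HensSch.pullMod ι).map_comp _ _).symm.trans ?_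
    exact (congrArg _ ((hχ n).symm.trans (hT n))).trans (hf n)

end Groth.Agent.Lib.HensSch.FormalFF
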