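import Groth.Agent.Lib.HensSch.FormalChart
import Groth.Agent.Lib.RingedMod.Pullback
import Groth.Agent.Lib.QCoh.Stalk
import Groth.Agent.Lib.HensSch.Flat
import Mathlib.RingTheory.Flat.FaithfullyFlat.Algebra
import Mathlib.RingTheory.Filtration

/-!
# Inverse image of modules to the Henselization along `V(I)`

* `isIso_unit`: for a module killed by a power of `I` the unit `M ⟶ ι_* ι^* M` is an isomorphism;
* `eq_zero_of_forall`: for a coherent module `F` a section of `ι^* F` is zero as soon as its image in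
  `ι^*(F / I^n F)` is zero for all `n`.
-/

universe u

open CategoryTheory Limits Opposite TopologicalSpace AlgebraicGeometry
open Groth.Agent.Lib.RingedMod Groth.Agent.Lib.RingedMod.Stalk
open Groth.Agent.Lib.HensSch.Sections Groth.Agent.Lib.HensSch.Lift Groth.Agent.H78.Formal.Sections
open Groth.Agent.Lib.HensSch.FormalChart
open scoped TensorProduct

set_option linter.style.haveILetI false
set_option backward.isDefEq.respectTransparency false

namespace Groth.Agent.Lib.HensSch.FormalUnit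

variable {A : Type u} [CommRing A] {X : Scheme.{u}} [X.Over (Spec (CommRingCat.of A))] {I : Ideal A}
variable {Xh : LocallyRingedSpace.{u}} (ι : Xh ⟶ X.toLocallyRingedSpace)

/-- The inverse image of a module. -/
noncomputable abbrev pl (F : X.Modules) : MD Xh.sheaf := (_root_.HensSch.pullMod ι).obj F

/-- The map of inverse images. -/
noncomputable abbrev plMap {F G : X.Modules} (f : F ⟶ G) : pl ι F ⟶ pl ι G :=
  (_root_.HensSch.pullMod ι).map f

/-- The unit `F ⟶ ι_* ι^* F`. -/
noncomputable abbrev unitHom (F : X.Modules) : F ⟶ (_root_.HensSch.pushMod ι).obj (pl ι F) :=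
  (_root_.HensSch.pullPushAdj ι).unit.app F

/-- Sections over the inverse image of an open. -/
abbrev GS (N : MD Xh.sheaf) (U : X.Opens) : Type u :=
  ((toP Xh.sheaf).obj N).obj (op ((Opens.map ι.base).obj U))

noncomputable instance moduleGS (N : MD Xh.sheaf) (U : X.Opens) : Module (Sh ι U) (GS ι N U) :=
  inferInstanceAs (Module (RU Xh.sheaf ((Opens.map ι.base).obj U))
    (((toP Xh.sheaf).obj N).obj (op ((Opens.map ι.base).obj U))))

/-- A map of modules on sections, linear. -/
noncomputable def gsMap {N N' : MD Xh.sheaf} (f : N ⟶ N') (U : X.Opens) :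
    GS ι N U →ₗ[Sh ι U] GS ι N' U :=
  (((toP Xh.sheaf).map f).app (op ((Opens.map ι.base).obj U))).hom

/-- The unit on sections. -/
noncomputable def uSec (F : X.Modules) (U : X.Opens) : Γ(F, U) →+ GS ι (pl ι F) U :=
  ((unitHom ι F).app U).hom

lemma uSec_smul (F : X.Modules) (U : X.Opens) (r : Γ(X, U)) (s : Γ(F, U)) :
    uSec ι F U (r • s) = φ ι U r • uSec ι F U s :=
  (unitHom ι F).app_smul r s

lemma uSec_natural {F G : X.Modules} (f : F ⟶ G) (U : X.Opens) (s : Γ(F, U)) :
    uSec ι G U (f.app U s) = gsMap ι (plMap ι f) U (uSec ι F U s) :=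
  congrArg (fun k : F ⟶ (_root_.HensSch.pushMod ι).obj (pl ι G) => (Scheme.Modules.Hom.app k U).hom s) ((_root_.HensSch.pullPushAdj ι).unit.naturality f)

lemma uSec_res (F : X.Modules) {U V : X.Opens} (h : V ≤ U) (s : Γ(F, U)) :
    uSec ι F V (F.presheaf.map (homOfLE h).op s) =
      res ((toP Xh.sheaf).obj (pl ι F)) ((Opens.map ι.base).monotone h) (uSec ι F U s) :=
  ConcreteCategory.congr_hom (((Scheme.Modules.toPresheaf X).map (unitHom ι F)).naturality (homOfLE h).op) s

variable {ι}

/-- The extension of `I` to a local ring of `X`. -/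
noncomputable def JS (I : Ideal A) (x : X) : Ideal (Ox X.toLocallyRingedSpace.sheaf x) :=
  I.map ((X.presheaf.germ ⊤ x trivial).hom.comp (sMap A ⊤))

lemma germ_sMap {U : X.Opens} {x : X} (hx : x ∈ U) (a : A) :
    X.presheaf.germ U x hx (sMap A U a) = X.presheaf.germ ⊤ x trivial (sMap A ⊤ a) := by
  rw [← res_sMap (le_top : U ≤ ⊤) a]
  exact TopCat.Presheaf.germ_res_apply _ _ _ _ _

lemma sIdeal_pow_map_germ (n : ℕ) {U : X.Opens} {x : X} (hx : x ∈ U) :
    (sIdeal I U ^ n).map (X.presheaf.germ U x hx).hom = JS I x ^ n := by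
  rw [Ideal.map_pow, sIdeal, Ideal.map_map, JS]
  congr 2
  exact RingHom.ext fun a => germ_sMap hx a

lemma killedBy_modPow (n : ℕ) (F : X.Modules) :
    _root_.Formal.KilledBy (I ^ n) (_root_.Formal.modPow I n F) := by
  intro a ha
  refine coequalizer.hom_ext ?_
  change _root_.Formal.modPowπ I n F ≫ _ = _root_.Formal.modPowπ I n F ≫ 0
  rw [← smulMod_comp, comp_zero]
  exact smulMod_π (I ^ n) F ha

variable [IsLocallyNoetherian X] (hh : _root_.HensSch.IsHenselizationAlong X (VI I) Xh ι)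
include hh

/-- `O^h_y = O_y + I^n O^h_y`. -/
theorem exists_sub_mem_stalk (n : ℕ) (y : Xh) (c : Ox Xh.sheaf y) :
    ∃ d : Ox X.toLocallyRingedSpace.sheaf (ι.base y),
      c - Pullback.sm ι y d ∈ (JS I (ι.base y) ^ n).map (Pullback.sm ι y) := by
  obtain ⟨O, hyO, p, rfl⟩ := TopCat.Presheaf.exists_germ_eq Xh.presheaf c
  obtain ⟨W, hW, hWO⟩ := hh.2.1.isInducing.isOpen_iff.mp O.2
  obtain ⟨U, hU, hg, hyU, hUW⟩ := exists_good hh (W := ⟨W, hW⟩) (x := ι.base y)
    (hWO.ge hyO) (hh.2.2.1.le ⟨y, rfl⟩)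
  have hUO : (Opens.map ι.base).obj U ≤ O := fun z hz => hWO.le (hUW hz)
  haveI := IsLocallyNoetherian.component_noetherian (X := X) ⟨U, hU⟩
  obtain ⟨r, hr⟩ := exists_sub_mem_pow (I := I) hU hg n ((Xh.presheaf.map (homOfLE hUO).op).hom p)
  refine ⟨X.presheaf.germ U (ι.base y) hyU r, ?_⟩
  let G := (Xh.presheaf.germ ((Opens.map ι.base).obj U) y hyU).hom
  have hsm : ∀ s : Γ(X, U), Pullback.sm ι y (X.presheaf.germ U (ι.base y) hyU s) = G (φ ι U s) :=
    fun s => LocallyRingedSpace.stalkMap_germ_apply ι U y hyU s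
  have h1 := Ideal.mem_map_of_mem G hr
  rw [map_sub, ← hsm] at h1
  have h2 : G ((Xh.presheaf.map (homOfLE hUO).op).hom p) = Xh.presheaf.germ O y hyO p :=
    TopCat.Presheaf.germ_res_apply _ _ _ _ _
  rw [h2, Ideal.map_map] at h1
  rw [← sIdeal_pow_map_germ n hyU, Ideal.map_map]
  rwa [show (Pullback.sm ι y).comp (X.presheaf.germ U (ι.base y) hyU).hom = G.comp (φ ι U) from
    RingHom.ext hsm]

omit hh in
lemma smul_eq_zero_of_killed {n : ℕ} {M : X.Modules} (hM : _root_.Formal.KilledBy (I ^ n) M) (x : X)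
    {q : Ox X.toLocallyRingedSpace.sheaf x} (hq : q ∈ JS I x ^ n)
    (v : (stk X.toLocallyRingedSpace.sheaf x).obj M) : q • v = 0 := by
  obtain ⟨U, hxU, s, hs⟩ := exists_germ (P := (toP X.toLocallyRingedSpace.sheaf).obj M) v
  subst hs
  rw [← sIdeal_pow_map_germ n hxU] at hq
  induction hq using Submodule.span_induction with
  | mem q hq =>
    obtain ⟨r, hr, rfl⟩ := hq
    rw [SetLike.mem_coe, ← sIdeal_pow] at hr
    refine (germ_smul (P := (toP X.toLocallyRingedSpace.sheaf).obj M) hxU r s).symm.trans ?_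
    have : r • s = (0 : Γ(M, U)) := by
      have hle : sIdeal (I ^ n) U ≤ LinearMap.ker (LinearMap.toSpanSingleton Γ(X, U) Γ(M, U) s) := by
        refine Ideal.map_le_iff_le_comap.mpr fun a ha => ?_
        show sMap A U a • (show Γ(M, U) from s) = 0
        rw [← smulMod_app, hM a ha]
        rfl
      exact hle hr
    exact (congrArg (germ (P := (toP X.toLocallyRingedSpace.sheaf).obj M) hxU) this).trans (map_zero _)
  | zero => exact zero_smul _ _
  | add a b _ _ ha hb => rw [add_smul, ha, hb, add_zero]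
  | smul a b _ hb => rw [smul_eq_mul, mul_smul, hb, smul_zero]

/-- For a module killed by a power of `I`, `M_{ι y} → (ι^* M)_y` is bijective. -/
theorem bijective_unitStalk {n : ℕ} {M : X.Modules} (hM : _root_.Formal.KilledBy (I ^ n) M) (y : Xh) :
    Function.Bijective (Pullback.unitStalk ι y M) := by
  let R := Ox X.toLocallyRingedSpace.sheaf (ι.base y)
  let B := Ox Xh.sheaf y
  let N := (stk X.toLocallyRingedSpace.sheaf (ι.base y)).obj M
  letI : Algebra R B := (Pullback.sm ι y).toAlgebra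
  haveI : Module.Flat R B :=
    Flat.flat_stalkMap_of_basis ι hh.2.1.isInducing (fun W x hx => by
      obtain ⟨U, hU, hxU, hUW⟩ := exists_good_flat hh hx
      exact ⟨U, hU.2, hxU, hUW⟩) y
  haveI : IsLocalRing R := X.toLocallyRingedSpace.isLocalRing _
  haveI : IsLocalRing B := Xh.isLocalRing _
  haveI : IsLocalHom (algebraMap R B) := LocallyRingedSpace.isLocalHomStalkMap ι y
  haveI : Module.FaithfullyFlat R B := Module.FaithfullyFlat.of_flat_of_isLocalHom
  let c := (Pullback.comparison ι y).app M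
  have hc : Function.Bijective c :=
    ConcreteCategory.bijective_of_isIso ((Pullback.pullbackStalkIso ι y).app M).hom
  have hu : ∀ a : N, Pullback.unitStalk ι y M a = c ((1 : B) ⊗ₜ[R] a) := fun a =>
    (Pullback.comparison_one_tmul ι y M a).symm
  refine ⟨fun a b hab => Module.FaithfullyFlat.tensorProduct_mk_injective (A := R) (B := B) N (hc.1 ?_),
    fun z => ?_⟩
  · show c ((1 : B) ⊗ₜ[R] a) = c ((1 : B) ⊗ₜ[R] b)
    rw [← hu, ← hu, hab]
  obtain ⟨w, rfl⟩ := hc.2 z
  have key : ∀ w : B ⊗[R] N, ∃ a : N, w = (1 : B) ⊗ₜ[R] a := by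
    intro w
    induction w with
    | zero => exact ⟨0, (TensorProduct.tmul_zero _ _).symm⟩
    | add a b ha hb =>
      obtain ⟨a', rfl⟩ := ha
      obtain ⟨b', rfl⟩ := hb
      exact ⟨a' + b', (TensorProduct.tmul_add _ _ _).symm⟩
    | tmul b a =>
      obtain ⟨d, hd⟩ := exists_sub_mem_stalk hh n y b
      refine ⟨d • a, ?_⟩
      have h0 : ∀ e ∈ (JS I (ι.base y) ^ n).map (algebraMap R B), ∀ g : B, (g * e) ⊗ₜ[R] a = 0 := by
        intro e he
        induction he using Submodule.span_induction with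
        | mem e he =>
          obtain ⟨q, hq, rfl⟩ := he
          intro g
          rw [mul_comm, ← Algebra.smul_def, TensorProduct.smul_tmul,
            smul_eq_zero_of_killed hM _ hq a, TensorProduct.tmul_zero]
        | zero => intro g; rw [mul_zero, TensorProduct.zero_tmul]
        | add e e' _ _ he he' => intro g; rw [mul_add, TensorProduct.add_tmul, he g, he' g, add_zero]
        | smul k e _ he => intro g; rw [smul_eq_mul, ← mul_assoc]; exact he _
      have h1 := h0 _ hd 1
      rw [one_mul, TensorProduct.sub_tmul, sub_eq_zero] at h1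
      rw [h1, ← TensorProduct.smul_tmul, Algebra.smul_def, mul_one]
      rfl
  obtain ⟨a, ha⟩ := key w
  exact ⟨a, (hu a).trans (congrArg c ha.symm)⟩

omit hh in
lemma subsingleton_stk_of_notMem {n : ℕ} {M : X.Modules} (hM : _root_.Formal.KilledBy (I ^ n) M)
    {x : X} (hx : x ∉ VI I) : Subsingleton ((stk X.toLocallyRingedSpace.sheaf x).obj M) := by
  rw [mem_VI_iff (U := ⊤) (show x ∈ (⊤ : X.Opens) from trivial)] at hx
  push Not at hx
  obtain ⟨a, ha, hb⟩ := hx
  rw [Scheme.mem_basicOpen X _ x (show x ∈ (⊤ : X.Opens) from trivial)] at hb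
  refine subsingleton_of_forall_eq 0 fun v => ?_
  have hq : (X.presheaf.germ ⊤ x trivial (sMap A ⊤ a)) ^ n ∈ JS I x ^ n :=
    Ideal.pow_mem_pow (Ideal.mem_map_of_mem _ ha) n
  exact (hb.pow n).smul_eq_zero.mp (smul_eq_zero_of_killed hM x hq v)

/-- For a module killed by a power of `I`, the unit is an isomorphism. -/
theorem isIso_unit {n : ℕ} {M : X.Modules} (hM : _root_.Formal.KilledBy (I ^ n) M) :
    IsIso (unitHom ι M) := by
  refine (isIso_iff_stk (O := X.toLocallyRingedSpace.sheaf) _).mpr fun x => ?_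
  rw [ConcreteCategory.isIso_iff_bijective]
  by_cases hxY : x ∈ VI I
  · obtain ⟨y, rfl⟩ := hh.2.2.1.ge hxY
    haveI : IsIso (TopCat.Presheaf.stalkPushforward AddCommGrpCat.{u} ι.base
        ((toP Xh.sheaf).obj (pl ι M)).presheaf y) :=
      TopCat.Presheaf.stalkPushforward.stalkPushforward_iso_of_isInducing AddCommGrpCat.{u}
        hh.2.1.isInducing _ y
    exact (Function.Bijective.of_comp_iff' (f := Pullback.pushStalkMap ι y (pl ι M))
      (ConcreteCategory.bijective_of_isIso _) _).mp (bijective_unitStalk hh hM y)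
  · haveI := subsingleton_stk_of_notMem hM hxY
    haveI : Subsingleton ((stk X.toLocallyRingedSpace.sheaf x).obj
        ((_root_.HensSch.pushMod ι).obj (pl ι M))) := by
      refine subsingleton_of_forall_eq 0 fun v => ?_
      obtain ⟨U, hxU, s, rfl⟩ :=
        exists_germ (P := (toP X.toLocallyRingedSpace.sheaf).obj ((_root_.HensSch.pushMod ι).obj (pl ι M))) v
      let V : X.Opens := U ⊓ ⟨(VI I)ᶜ, hh.1.isOpen_compl⟩
      rw [← germ_res (inf_le_left : V ≤ U) (⟨hxU, hxY⟩ : x ∈ V)]
      refine (congrArg (germ (P := (toP X.toLocallyRingedSpace.sheaf).obj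
        ((_root_.HensSch.pushMod ι).obj (pl ι M))) (⟨hxU, hxY⟩ : x ∈ V)) ?_).trans (map_zero _)
      exact TopCat.Presheaf.section_ext ((toAbSh Xh.sheaf).obj (pl ι M)) ((Opens.map ι.base).obj V) _ _
        fun z hz => absurd (hh.2.2.1.le ⟨z, rfl⟩) hz.2
    exact ⟨fun a b _ => Subsingleton.elim a b, fun b => ⟨0, Subsingleton.elim _ _⟩⟩

omit hh in
lemma exists_mem_span_germ {F : X.Modules} (hF : Coh.IsCoh F) {U : X.Opens} (hU : IsAffineOpen U) :
    ∃ (k : ℕ) (m : Fin k → Γ(F, U)), ∀ (y : Xh) (hy : ι.base y ∈ U)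
      (z : (stk Xh.sheaf y).obj (pl ι F)), z ∈ Submodule.span (Ox Xh.sheaf y)
        (Set.range fun j => germ (P := (toP Xh.sheaf).obj (pl ι F))
          (U := (Opens.map ι.base).obj U) hy (uSec ι F U (m j))) := by
  haveI := CohBasics.Closure.finite_sections hF hU
  haveI := hF.1
  obtain ⟨k, m, hm⟩ := Module.Finite.exists_fin (R := Γ(X, U)) (M := Γ(F, U))
  refine ⟨k, m, fun y hy z => ?_⟩
  let S := Submodule.span (Ox Xh.sheaf y) (Set.range fun j => germ (P := (toP Xh.sheaf).obj (pl ι F))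
    (U := (Opens.map ι.base).obj U) hy (uSec ι F U (m j)))
  have hsec : ∀ t : Γ(F, U), germ (P := (toP Xh.sheaf).obj (pl ι F))
      (U := (Opens.map ι.base).obj U) hy (uSec ι F U t) ∈ S := by
    intro t
    have ht : t ∈ Submodule.span Γ(X, U) (Set.range m) := hm ▸ Submodule.mem_top
    induction ht using Submodule.span_induction with
    | mem t ht =>
      obtain ⟨j, rfl⟩ := ht
      exact Submodule.subset_span ⟨j, rfl⟩
    | zero =>
      exact Eq.subst (motive := (· ∈ S)) (Eq.symm ((congrArg (germ (P := (toP Xh.sheaf).obj (pl ι F))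
        (U := (Opens.map ι.base).obj U) hy) (map_zero (uSec ι F U))).trans (map_zero _))) S.zero_mem
    | add a b _ _ ha hb =>
      exact Eq.subst (motive := (· ∈ S)) (Eq.symm ((congrArg (germ (P := (toP Xh.sheaf).obj (pl ι F))
        (U := (Opens.map ι.base).obj U) hy) (map_add (uSec ι F U) a b)).trans (map_add _ _ _)))
        (S.add_mem ha hb)
    | smul r a _ ha =>
      rw [uSec_smul]
      refine Eq.subst (motive := (· ∈ S)) (germ_smul (P := (toP Xh.sheaf).obj (pl ι F))
        (U := (Opens.map ι.base).obj U) hy (φ ι U r) (uSec ι F U a)).symm ?_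
      exact S.smul_mem _ ha
  have hun : ∀ a : (stk X.toLocallyRingedSpace.sheaf (ι.base y)).obj F,
      Pullback.unitStalk ι y F a ∈ S := by
    intro a
    obtain ⟨f, t, hf, e⟩ := QCoh.Stalk.exists_smul_eq_germ F hU hy a
    rw [Scheme.mem_basicOpen X f (ι.base y) hy] at hf
    obtain ⟨v, hv⟩ := hf
    have e' : a = (↑v⁻¹ : X.presheaf.stalk (ι.base y)) • F.presheaf.germ U (ι.base y) hy t := by
      rw [← e, ← hv, ← mul_smul, Units.inv_mul, one_smul]
    have e2 : Pullback.unitStalk ι y F a = Pullback.sm ι y (↑v⁻¹ : X.presheaf.stalk (ι.base y)) •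
        Pullback.unitStalk ι y F (F.presheaf.germ U (ι.base y) hy t) := by
      rw [e']
      exact (Pullback.unitStalk ι y F).hom.map_smul _ _
    rw [e2]
    refine S.smul_mem _ ?_
    refine Eq.subst (motive := (· ∈ S)) ?_ (hsec t)
    refine Eq.symm ((congrArg (Pullback.pushStalkMap ι y (pl ι F))
      (stMap_germ ((toP X.toLocallyRingedSpace.sheaf).map (unitHom ι F)) hy t)).trans ?_)
    exact Pullback.pushStalkMap_germ ι y (pl ι F) hy _
  letI := (Pullback.sm ι y).toAlgebra
  obtain ⟨w, rfl⟩ := (ConcreteCategory.bijective_of_isIso ((Pullback.pullbackStalkIso ι y).app F).hom).2 z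
  induction w using TensorProduct.induction_on with
  | zero =>
    exact Eq.subst (motive := (· ∈ S)) (map_zero ((Pullback.pullbackStalkIso ι y).app F).hom.hom).symm
      S.zero_mem
  | add a b ha hb =>
    exact Eq.subst (motive := (· ∈ S)) (map_add ((Pullback.pullbackStalkIso ι y).app F).hom.hom a b).symm
      (S.add_mem ha hb)
  | tmul b a =>
    let b' : Ox Xh.sheaf y := b
    let N := (stk X.toLocallyRingedSpace.sheaf (ι.base y)).obj F
    let one_a : ↑((ModuleCat.extendScalars.{u, u, u} (Pullback.sm ι y)).obj N) :=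
      (1 : Ox Xh.sheaf y) ⊗ₜ[Ox X.toLocallyRingedSpace.sheaf (ι.base y)] a
    have e : ((b' ⊗ₜ[Ox X.toLocallyRingedSpace.sheaf (ι.base y)] a :) :
        ↑((ModuleCat.extendScalars.{u, u, u} (Pullback.sm ι y)).obj N)) = b' • one_a := by
      refine (Eq.trans (ModuleCat.ExtendScalars.smul_tmul (Pullback.sm ι y) (M := N) b' 1 a) ?_).symm
      rw [mul_one]
    refine Eq.subst (motive := fun v => ((Pullback.pullbackStalkIso ι y).app F).hom.hom v ∈ S) e.symm ?_
    refine Eq.subst (motive := (· ∈ S))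
      ((LinearMap.map_smul ((Pullback.pullbackStalkIso ι y).app F).hom.hom b' one_a).symm) (S.smul_mem b' ?_)
    exact Eq.subst (motive := (· ∈ S)) (Pullback.comparison_one_tmul ι y F a).symm (hun a)

/-- A section of `ι^* F` vanishing in every `ι^*(F / I^n F)` is zero. -/
theorem eq_zero_of_forall {F : X.Modules} (hF : Coh.IsCoh F) (V : X.Opens) (t : GS ι (pl ι F) V)
    (ht : ∀ n, gsMap ι (plMap ι (_root_.Formal.modPowπ I n F)) V t = 0) : t = 0 := by
  haveI := hF.1
  let P := (toP Xh.sheaf).obj (pl ι F)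
  refine TopCat.Presheaf.section_ext ((toAbSh Xh.sheaf).obj (pl ι F)) ((Opens.map ι.base).obj V) _ _
    fun y hy => ?_
  refine Eq.trans ?_ (map_zero (TopCat.Presheaf.germ P.presheaf ((Opens.map ι.base).obj V) y hy).hom).symm
  obtain ⟨U₀, hU₀, hyU₀, hU₀V⟩ := exists_isAffineOpen_mem_and_subset (X := X) (x := ι.base y) hy
  obtain ⟨k, m, hm⟩ := exists_mem_span_germ (ι := ι) hF hU₀
  obtain ⟨c, hc⟩ := (Submodule.mem_span_range_iff_exists_fun _).mp
    (hm y hyU₀ (germ (P := P) (U := (Opens.map ι.base).obj V) hy t))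
  choose Oc hOc r hr using fun j => TopCat.Presheaf.exists_germ_eq Xh.presheaf (c j)
  let O : Opens Xh.toTopCat := (Opens.map ι.base).obj U₀ ⊓ Finset.univ.inf Oc
  have hyO : y ∈ O := ⟨hyU₀, Finset.inf_induction (p := fun V : Opens Xh.toTopCat => y ∈ V) trivial
    (fun V hV V' hV' => ⟨hV, hV'⟩) fun j _ => hOc j⟩
  have hOj : ∀ j, O ≤ Oc j := fun j => inf_le_right.trans (Finset.inf_le (Finset.mem_univ j))
  have hOV : O ≤ (Opens.map ι.base).obj V := inf_le_left.trans ((Opens.map ι.base).monotone hU₀V)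
  let z : P.obj (op O) := ∑ j, resR (O := Xh.sheaf) (hOj j) (r j) •
    res P (inf_le_left : O ≤ (Opens.map ι.base).obj U₀) (uSec ι F U₀ (m j))
  have hz : germ hyO (res P hOV t) = germ hyO z := by
    rw [germ_res]
    refine Eq.trans ?_ (map_sum (TopCat.Presheaf.germ P.presheaf O y hyO).hom _ _).symm
    refine hc.symm.trans (Finset.sum_congr rfl fun j _ => ?_)
    refine Eq.trans ?_ (germ_smul (P := P) hyO _ _).symm
    rw [rgerm_res, germ_res]
    exact congrArg (· • _) (hr j).symm
  obtain ⟨O', hyO', i₁, i₂, heq⟩ := TopCat.Presheaf.germ_eq P.presheaf y hyO hyO _ _ hz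
  obtain ⟨W, hW, hWO⟩ := hh.2.1.isInducing.isOpen_iff.mp O'.2
  obtain ⟨U, hU, hg, hyU, hUW⟩ := exists_good hh (W := U₀ ⊓ ⟨W, hW⟩) (x := ι.base y)
    ⟨hyU₀, hWO.ge hyO'⟩ (hh.2.2.1.le ⟨y, rfl⟩)
  have hUU₀ : U ≤ U₀ := hUW.trans inf_le_left
  have hUO' : (Opens.map ι.base).obj U ≤ O' := fun w hw => hWO.le (hUW hw).2
  have hUO : (Opens.map ι.base).obj U ≤ O := hUO'.trans i₁.le
  have hUV : U ≤ V := hUU₀.trans hU₀V
  suffices h : res P ((Opens.map ι.base).monotone hUV) t = 0 by
    refine (germ_res (P := P) ((Opens.map ι.base).monotone hUV)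
      (show y ∈ (Opens.map ι.base).obj U from hyU) t).symm.trans ?_
    exact (congrArg (germ (P := P) (show y ∈ (Opens.map ι.base).obj U from hyU)) h).trans (map_zero _)
  have hres : ∀ (s : P.obj (op O)), res P hUO' (P.map i₁.op s) = res P hUO s := fun s => by
    show (P.presheaf.map i₁.op ≫ P.presheaf.map (homOfLE hUO').op) s = _
    rw [← Functor.map_comp]
    rfl
  let b : Fin k → Sh ι U := fun j => resR hUO (resR (O := Xh.sheaf) (hOj j) (r j))
  let mU : Fin k → Γ(F, U) := fun j => F.presheaf.map (homOfLE hUU₀).op (m j)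
  have hsum : res P ((Opens.map ι.base).monotone hUV) t = ∑ j, b j • uSec ι F U (mU j) := by
    have h1 := congrArg (res P hUO') heq
    have h2 : res P hUO (res P hOV t) = res P hUO z := (hres _).symm.trans (h1.trans (by
      show (P.presheaf.map i₂.op ≫ P.presheaf.map (homOfLE hUO').op) z = _
      rw [← Functor.map_comp]
      rfl))
    refine Eq.trans ?_ (h2.trans ((map_sum (P.presheaf.map (homOfLE hUO).op).hom _ _).trans
      (Finset.sum_congr rfl fun j _ => ?_)))
    · show _ = (P.presheaf.map (homOfLE hOV).op ≫ P.presheaf.map (homOfLE hUO).op) t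
      rw [← Functor.map_comp]
      rfl
    · refine (res_smul (P := P) hUO _ _).trans (congrArg (b j • ·) ?_)
      refine Eq.trans ?_ (uSec_res ι F hUU₀ (m j)).symm
      show (P.presheaf.map _ ≫ P.presheaf.map _) _ = _
      rw [← Functor.map_comp]
      rfl
  -- the tensor product with the sections over `U`
  haveI := IsLocallyNoetherian.component_noetherian (X := X) ⟨U, hU⟩
  haveI := CohBasics.Closure.finite_sections hF hU
  haveI := isNoetherianRing_sh hh hg
  letI : Algebra Γ(X, U) (Sh ι U) := (φ ι U).toAlgebra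
  letI : Module Γ(X, U) (GS ι (pl ι F) U) := Module.compHom _ (φ ι U)
  haveI : IsScalarTower Γ(X, U) (Sh ι U) (GS ι (pl ι F) U) :=
    IsScalarTower.of_algebraMap_smul fun _ _ => rfl
  let u : Γ(F, U) →ₗ[Γ(X, U)] GS ι (pl ι F) U :=
    { toFun := uSec ι F U, map_add' := map_add _, map_smul' := fun a s => uSec_smul ι F U a s }
  let Θ : Sh ι U ⊗[Γ(X, U)] Γ(F, U) →ₗ[Sh ι U] GS ι (pl ι F) U := u.liftBaseChange (Sh ι U)
  let w : Sh ι U ⊗[Γ(X, U)] Γ(F, U) := ∑ j, b j ⊗ₜ mU j
  have hΘw : Θ w = res P ((Opens.map ι.base).monotone hUV) t := by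
    rw [hsum, map_sum]
    exact Finset.sum_congr rfl fun j _ => LinearMap.liftBaseChange_tmul _ _ _ _
  suffices hw : w = 0 by rw [← hΘw, hw, map_zero]
  have hjac : (sIdeal I U).map (φ ι U) ≤ Ideal.jacobson ⊥ := map_sIdeal_le_jacobson hh
  have hmem : w ∈ ⨅ n : ℕ, (sIdeal I U).map (φ ι U) ^ n •
      (⊤ : Submodule (Sh ι U) (Sh ι U ⊗[Γ(X, U)] Γ(F, U))) := by
    refine Submodule.mem_iInf _ |>.mpr fun n => ?_
    rw [← Ideal.map_pow]
    let K := (sIdeal I U ^ n).map (φ ι U)
    let π := _root_.Formal.modPowπ I n F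
    choose a ha using fun j => exists_sub_mem_pow (I := I) hU hg n (b j)
    let m₁ : Γ(F, U) := ∑ j, a j • mU j
    have hdiff : w - (1 : Sh ι U) ⊗ₜ m₁ ∈ K • (⊤ : Submodule (Sh ι U) (Sh ι U ⊗[Γ(X, U)] Γ(F, U))) := by
      have : w - (1 : Sh ι U) ⊗ₜ m₁ = ∑ j, (b j - φ ι U (a j)) • ((1 : Sh ι U) ⊗ₜ[Γ(X, U)] mU j) := by
        simp only [w, m₁, TensorProduct.tmul_sum, ← Finset.sum_sub_distrib,
          TensorProduct.smul_tmul', smul_eq_mul, mul_one, TensorProduct.sub_tmul]
        refine Finset.sum_congr rfl fun j _ => congrArg (b j ⊗ₜ[Γ(X, U)] mU j - ·) ?_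
        rw [← TensorProduct.smul_tmul, Algebra.smul_def, mul_one]
        rfl
      rw [this]
      exact sum_mem fun j _ => Submodule.smul_mem_smul (ha j) trivial
    let T := (gsMap ι (plMap ι π) U).comp Θ
    have hTt : ∀ (e : Sh ι U) (s : Γ(F, U)),
        T (e ⊗ₜ s) = e • uSec ι (_root_.Formal.modPow I n F) U (π.app U s) := fun e s => by
      show gsMap ι (plMap ι π) U (Θ (e ⊗ₜ s)) = _
      rw [LinearMap.liftBaseChange_tmul, map_smul, uSec_natural]
      rfl
    have hker : K • (⊤ : Submodule (Sh ι U) (Sh ι U ⊗[Γ(X, U)] Γ(F, U))) ≤ LinearMap.ker T := by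
      refine Submodule.smul_le.mpr fun q hq v hv₀ => ?_
      clear hv₀
      induction hq using Submodule.span_induction with
      | mem q hq =>
        obtain ⟨j, hj, rfl⟩ := hq
        rw [LinearMap.mem_ker]
        induction v using TensorProduct.induction_on with
        | zero => rw [smul_zero, map_zero]
        | add v v' hv hv' => rw [smul_add, map_add, hv, hv', add_zero]
        | tmul e s =>
          rw [map_smul, hTt, ← mul_smul, mul_comm, mul_smul, ← uSec_smul, ← π.app_smul,
            (modPowπ_eq_zero_iff I n hU _).mpr (Submodule.smul_mem_smul hj trivial), map_zero, smul_zero]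
      | zero => rw [zero_smul]; exact zero_mem _
      | add q q' _ _ h h' => rw [add_smul]; exact add_mem h h'
      | smul c q _ h => rw [smul_eq_mul, mul_smul]; exact Submodule.smul_mem _ c h
    have hTw : T w = 0 := by
      show gsMap ι (plMap ι π) U (Θ w) = 0
      rw [hΘw]
      have := congrArg (res ((toP Xh.sheaf).obj (pl ι (_root_.Formal.modPow I n F)))
        ((Opens.map ι.base).monotone hUV)) (ht n)
      refine Eq.trans ?_ (this.trans (map_zero _))
      exact PresheafOfModules.naturality_apply ((toP Xh.sheaf).map (plMap ι π)) _ t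
    have hm₁ : m₁ ∈ sIdeal I U ^ n • (⊤ : Submodule Γ(X, U) Γ(F, U)) := by
      refine (modPowπ_eq_zero_iff I n hU m₁).mp ?_
      haveI := isIso_unit hh (killedBy_modPow (I := I) n F)
      refine (app_bijective (unitHom ι (_root_.Formal.modPow I n F)) U).1 (Eq.trans ?_ (map_zero _).symm)
      have h3 : T ((1 : Sh ι U) ⊗ₜ m₁) = 0 := by
        have := hker hdiff
        rw [LinearMap.mem_ker, map_sub, hTw, zero_sub, neg_eq_zero] at this
        exact this
      rw [hTt, one_smul] at h3
      exact h3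
    have h1 : (1 : Sh ι U) ⊗ₜ[Γ(X, U)] m₁ ∈ K • (⊤ : Submodule (Sh ι U) (Sh ι U ⊗[Γ(X, U)] Γ(F, U))) := by
      refine Submodule.smul_induction_on hm₁ (fun j hj s _ => ?_) (fun x y hx hy => ?_)
      · rw [TensorProduct.tmul_smul, ← IsScalarTower.algebraMap_smul (Sh ι U) j]
        exact Submodule.smul_mem_smul (Ideal.mem_map_of_mem _ hj) trivial
      · rw [TensorProduct.tmul_add]
        exact add_mem hx hy
    have := add_mem hdiff h1
    rwa [sub_add_cancel] at this
  rwa [Ideal.iInf_pow_smul_eq_bot_of_le_jacobson _ hjac, Submodule.mem_bot] at hmem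

end Groth.Agent.Lib.HensSch.FormalUnit
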