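import Groth.Prelude.Def_HensSch
import Groth.Agent.Lib.Henselian.Pair
import Mathlib.AlgebraicGeometry.AffineScheme

/-!
# Sections of Henselian schemes

* `van X U S`: sections on `U` vanishing at every point of `U ∩ S`.
* `Universal φ I`: `φ : A → B` is initial among maps to Henselian pairs `(C, K)` with `I` going into `K`.
* `universal_of_away`, `exists_sub_mem_map`
* `henselianRing_van`: on a Henselian scheme, `(O(W), van W univ)` is a Henselian pair for every open `W`.
-/

universe u

open CategoryTheory Opposite TopologicalSpace Topology AlgebraicGeometry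

namespace Groth.Agent.Lib.HensSch.Sections

open Groth.Agent.Lib.Henselian.Basic Groth.Agent.Lib.Henselian.Pair

/-! ### Commutative algebra -/

section Alg

variable {A B : Type u} [CommRing A] [CommRing B]

/-- `φ : A → B` is initial among maps from `A` to Henselian pairs carrying `I` into the ideal. -/
def Universal (φ : A →+* B) (I : Ideal A) : Prop :=
  ∀ (C : Type u) [CommRing C] (K : Ideal C) (h : A →+* C),
    HenselianRing C K → I.map h ≤ K → ∃! ψ : B →+* C, ψ.comp φ = h

theorem henselianRing_bot (C : Type u) [CommRing C] : HenselianRing C (⊥ : Ideal C) :=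
  henselianRing_of_nil fun x hx => by rw [Ideal.mem_bot.mp hx]; exact IsNilpotent.zero

theorem Universal.ext {φ : A →+* B} {I : Ideal A} (hu : Universal φ I) {C : Type u} [CommRing C]
    (K : Ideal C) [HenselianRing C K] (hI : ∀ a ∈ I, ∀ ψ : B →+* C, ψ (φ a) ∈ K) {ψ ψ' : B →+* C}
    (h : ψ.comp φ = ψ'.comp φ) : ψ = ψ' :=
  (hu C K (ψ.comp φ) inferInstance (Ideal.map_le_iff_le_comap.mpr fun a ha => hI a ha ψ)).unique rfl h.symm

/-- For a universal map every element is congruent to one from `A` modulo the extended ideal. -/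
theorem Universal.exists_sub_mem {φ : A →+* B} {I : Ideal A} (hu : Universal φ I) (b : B) :
    ∃ a, b - φ a ∈ I.map φ := by
  let q := (Ideal.Quotient.mk (I.map φ)).comp φ
  have h0 : ∀ a ∈ I, q a = 0 := fun a ha =>
    Ideal.Quotient.eq_zero_iff_mem.mpr (Ideal.mem_map_of_mem φ ha)
  obtain ⟨ψ, hψ, -⟩ := hu q.range ⊥ q.rangeRestrict (henselianRing_bot _) (by
    refine Ideal.map_le_iff_le_comap.mpr fun a ha => ?_
    exact Ideal.mem_bot.mpr (Subtype.ext (h0 a ha)))
  have e : q.range.subtype.comp ψ = Ideal.Quotient.mk (I.map φ) := by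
    haveI := henselianRing_bot (B ⧸ I.map φ)
    refine (hu (B ⧸ I.map φ) ⊥ q inferInstance
      (Ideal.map_le_iff_le_comap.mpr fun a ha => Ideal.mem_bot.mpr (h0 a ha))).unique ?_ rfl
    rw [RingHom.comp_assoc, hψ]
    rfl
  obtain ⟨a, ha⟩ := (ψ b).2
  exact ⟨a, Ideal.Quotient.eq.mp ((RingHom.congr_fun e b).symm.trans ha.symm)⟩

/-- Passing from `IsHensAway` to universality over a localization. -/
theorem universal_of_away {R B₀ : Type u} [CommRing R] [CommRing B₀] (I : Ideal A) (f : A)
    (ρ : A →+* R) (hρ : letI := ρ.toAlgebra; IsLocalization.Away f R) (φ₀ : A →+* B₀)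
    (hB : _root_.HensSch.IsHensAway A I f B₀ φ₀) (α : R →+* B) (e : B₀ ≃+* B)
    (he : α.comp ρ = e.toRingHom.comp φ₀) (I' : Ideal R) (hI : I.map ρ ≤ I') :
    Universal α I' := by
  letI := ρ.toAlgebra
  intro C _ K h hC hK
  have hu : IsUnit ((h.comp ρ) f) := (IsLocalization.Away.algebraMap_isUnit f).map h
  have hK' : I.map (h.comp ρ) ≤ K := by
    rw [← Ideal.map_map]
    exact (Ideal.map_mono hI).trans hK
  obtain ⟨ψ₀, hψ₀, huniq⟩ := hB.2.2 C K (h.comp ρ) hC hK' hu
  refine ⟨ψ₀.comp e.symm.toRingHom, ?_, fun ψ hψ => ?_⟩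
  · refine IsLocalization.ringHom_ext (Submonoid.powers f) (RingHom.ext fun a => ?_)
    show ψ₀ (e.symm (α (ρ a))) = h (ρ a)
    rw [show α (ρ a) = e (φ₀ a) from RingHom.congr_fun he a, e.symm_apply_apply]
    exact RingHom.congr_fun hψ₀ a
  · have : ψ.comp e.toRingHom = ψ₀ := huniq _ (by
      show (ψ.comp e.toRingHom).comp φ₀ = _
      rw [RingHom.comp_assoc, ← he, ← RingHom.comp_assoc, hψ])
    rw [← this]
    ext b
    simp

theorem henselianRing_of_equiv (e : A ≃+* B) (J : Ideal B) [HenselianRing B J] :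
    HenselianRing A (J.comap e.toRingHom) where
  jac := le_jacobson_bot_of_isUnit_add_one fun x hx => by
    refine (isUnit_map_iff e (1 + x)).mp ?_
    refine isUnit_of_sub_one_mem (HenselianRing.jac (I := J)) ?_
    simpa using hx
  is_henselian f hf a₀ h₀ hd := by
    obtain ⟨b, hb, hb'⟩ := HenselianRing.is_henselian (I := J) (f.map e.toRingHom) (hf.map _) (e a₀)
      (by rw [Polynomial.eval_map]; exact (Polynomial.eval₂_at_apply e.toRingHom a₀).symm ▸ h₀)
      (by
        rw [Polynomial.derivative_map, Polynomial.eval_map,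
          show f.derivative.eval₂ e.toRingHom (e a₀) = e.toRingHom (f.derivative.eval a₀) from
            Polynomial.eval₂_at_apply e.toRingHom a₀]
        exact hd.map (Ideal.quotientMap J e.toRingHom le_rfl))
    refine ⟨e.symm b, ?_, ?_⟩
    · refine e.injective ?_
      rw [map_zero, ← hb, Polynomial.eval_map]
      exact (Polynomial.eval₂_at_apply e.toRingHom (e.symm b)).symm.trans (by simp)
    · show e (e.symm b - a₀) ∈ J
      simpa using hb'

end Alg

/-! ### Vanishing ideals of sections -/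

section Van

variable (X : LocallyRingedSpace.{u})

/-- The sections on `U` vanishing at all points of `U ∩ S`. -/
noncomputable def van (U : Opens X) (S : Set X) : Ideal (X.presheaf.obj (op U)) :=
  ⨅ (x : X) (hx : x ∈ U) (_ : x ∈ S),
    (IsLocalRing.maximalIdeal (X.presheaf.stalk x)).comap (X.presheaf.germ U x hx).hom

variable {X}

theorem mem_van {U : Opens X} {S : Set X} {s : X.presheaf.obj (op U)} :
    s ∈ van X U S ↔ ∀ x ∈ U, x ∈ S → x ∉ X.toRingedSpace.basicOpen s := by
  simp only [van, Submodule.mem_iInf, Ideal.mem_comap, IsLocalRing.mem_maximalIdeal, mem_nonunits_iff]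
  refine forall_congr' fun x => forall_congr' fun hx => forall_congr' fun _ => ?_
  exact not_congr (X.toRingedSpace.mem_basicOpen s x hx).symm

theorem van_le_jacobson (U : Opens X) : van X U Set.univ ≤ Ideal.jacobson ⊥ := by
  refine le_jacobson_bot_of_isUnit_add_one fun s hs => ?_
  refine X.toRingedSpace.isUnit_of_isUnit_germ U _ fun x hx => ?_
  by_contra h
  have h' := mem_van.mp hs x hx trivial
  rw [X.toRingedSpace.mem_basicOpen s x hx] at h'
  have := IsLocalRing.maximalIdeal (X.presheaf.stalk x) |>.sub_mem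
    (show (X.presheaf.germ U x hx).hom (1 + s) ∈ _ from (IsLocalRing.mem_maximalIdeal _).mpr h)
    (show (X.presheaf.germ U x hx).hom s ∈ _ from (IsLocalRing.mem_maximalIdeal _).mpr h')
  rw [map_add, map_one, add_sub_cancel_right] at this
  exact (IsLocalRing.mem_maximalIdeal _).mp this isUnit_one

theorem mem_basicOpen_res {U V : Opens X} (i : U ⟶ V) (s : X.presheaf.obj (op V)) (x : X) :
    x ∈ X.toRingedSpace.basicOpen ((X.presheaf.map i.op).hom s) ↔
      x ∈ U ∧ x ∈ X.toRingedSpace.basicOpen s := by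
  rw [show X.toRingedSpace.basicOpen ((X.presheaf.map i.op).hom s) = U ⊓ X.toRingedSpace.basicOpen s
    from X.toRingedSpace.basicOpen_res i.op s]
  exact Iff.rfl

theorem res_mem_van {U V : Opens X} (i : U ⟶ V) {S : Set X} {s : X.presheaf.obj (op V)}
    (hs : s ∈ van X V S) : (X.presheaf.map i.op).hom s ∈ van X U S :=
  mem_van.mpr fun x hx hS h => mem_van.mp hs x (i.le hx) hS ((mem_basicOpen_res i s x).mp h).2

variable {Y : LocallyRingedSpace.{u}} (f : X ⟶ Y)

theorem mem_basicOpen_app {U : Opens Y} (s : Y.presheaf.obj (op U)) (x : X) :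
    x ∈ X.toRingedSpace.basicOpen ((f.c.app (op U)).hom s) ↔ f.base x ∈ Y.toRingedSpace.basicOpen s :=
  (SetLike.ext_iff.mp (LocallyRingedSpace.preimage_basicOpen f s) x).symm

theorem app_mem_van {U : Opens Y} {S : Set Y} {T : Set X}
    (h : ∀ x ∈ T, f.base x ∈ U → f.base x ∈ S) {s : Y.presheaf.obj (op U)} (hs : s ∈ van Y U S) :
    (f.c.app (op U)).hom s ∈ van X ((Opens.map f.base).obj U) T :=
  mem_van.mpr fun x hx hT hb => mem_van.mp hs _ hx (h x hT hx) ((mem_basicOpen_app f s x).mp hb)

end Van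

/-! ### Spectra -/

section SpecSide

variable (A : Type u) [CommRing A]

/-- Opens of `Spec A`. -/
abbrev OpS := Opens (_root_.HensSch.specLRS A).toTopCat

/-- The basic open of `f`. -/
abbrev bas (f : A) : OpS A := PrimeSpectrum.basicOpen f

/-- `A → Γ(Spec A, W)`. -/
noncomputable def toSec (W : OpS A) :
    A →+* ((_root_.HensSch.specLRS A).presheaf.obj (op W) : Type u) :=
  ((_root_.HensSch.specLRS A).presheaf.map (homOfLE (le_top : W ≤ ⊤)).op).hom.comp
    (Scheme.ΓSpecIso (CommRingCat.of A)).inv.hom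

theorem isLocalization_toSec {W : OpS A} {f : A}
    (hW : W = bas A f) :
    letI := (toSec A W).toAlgebra; IsLocalization.Away f ((_root_.HensSch.specLRS A).presheaf.obj (op W)) := by
  subst hW
  have h := StructureSheaf.IsLocalization.to_basicOpen A f
  convert! h
  exact Algebra.algebra_ext _ _ fun a => rfl

variable {A}

/-- The ring map of sections attached to `π` on `W`. -/
noncomputable def pa {X : LocallyRingedSpace.{u}} (π : X ⟶ _root_.HensSch.specLRS A) (W : OpS A) :
    ((_root_.HensSch.specLRS A).presheaf.obj (op W) : Type u) →+*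
      (X.presheaf.obj (op ((Opens.map π.base).obj W)) : Type u) :=
  (π.c.app (op W)).hom

theorem mem_basicOpen_toSec (W : OpS A) (a : A) (p : (_root_.HensSch.specLRS A).toTopCat) :
    p ∈ (_root_.HensSch.specLRS A).toRingedSpace.basicOpen (toSec A W a) ↔ p ∈ W ∧ a ∉ p.asIdeal := by
  refine (mem_basicOpen_res (homOfLE (le_top : W ≤ ⊤)) _ p).trans (and_congr Iff.rfl ?_)
  exact SetLike.ext_iff.mp (basicOpen_eq_of_affine (R := CommRingCat.of A) a) p

theorem app_comp_toSec {X : LocallyRingedSpace.{u}} (π : X ⟶ _root_.HensSch.specLRS A)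
    (W : OpS A) :
    (pa π W).comp (toSec A W) = _root_.HensSch.secMap π W := by
  have := congrArg CommRingCat.Hom.hom (π.c.naturality (homOfLE (le_top : W ≤ ⊤)).op)
  refine RingHom.ext fun a => ?_
  exact RingHom.congr_fun this ((Scheme.ΓSpecIso (CommRingCat.of A)).inv.hom a)

theorem map_toSec_le (I : Ideal A) (W : OpS A) (S : Set (PrimeSpectrum A))
    (h : ∀ p ∈ S, p ∈ W → I ≤ p.asIdeal) : I.map (toSec A W) ≤ van (_root_.HensSch.specLRS A) W S :=
  Ideal.map_le_iff_le_comap.mpr fun a ha =>
    mem_van.mpr fun p hp hS hb => ((mem_basicOpen_toSec W a p).mp hb).2 (h p hS hp ha)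

theorem universal_sph {I : Ideal A} {X : LocallyRingedSpace.{u}}
    {π : X ⟶ _root_.HensSch.specLRS A} (hX : _root_.HensSch.IsSph A I X π)
    {W : OpS A} {f : A} (hW : W = bas A f) :
    Universal (pa π W) (I.map (toSec A W)) := by
  subst hW
  exact universal_of_away I f (toSec A _) (isLocalization_toSec A rfl) _ (hX.2.2 f) _
    (RingEquiv.refl _) (app_comp_toSec π _) _ le_rfl

theorem van_le_radical {I : Ideal A} {X : LocallyRingedSpace.{u}}
    {π : X ⟶ _root_.HensSch.specLRS A} (hX : _root_.HensSch.IsSph A I X π) (f : A) :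
    van X (_root_.HensSch.dOpen π f) Set.univ ≤
      (I.map (_root_.HensSch.secMap π (PrimeSpectrum.basicOpen f))).radical := by
  intro s hs
  set W := bas A f
  set φ := _root_.HensSch.secMap π W with hφ
  obtain ⟨r, hr⟩ := (universal_sph hX (W := W) rfl).exists_sub_mem s
  rw [Ideal.map_map, app_comp_toSec, ← hφ] at hr
  have hrW : ∀ p : PrimeSpectrum A, I ≤ p.asIdeal → p ∈ W →
      p ∉ (_root_.HensSch.specLRS A).toRingedSpace.basicOpen r := by
    intro p hp hpW hb
    obtain ⟨x, rfl⟩ : p ∈ Set.range π.base := by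
      rw [hX.2.1]; exact fun a ha => hp ha
    have h1 := mem_van.mp hs x hpW trivial
    have hIv : I.map φ ≤ van X ((Opens.map π.base).obj W) Set.univ := by
      rw [hφ, ← app_comp_toSec, ← Ideal.map_map]
      refine (Ideal.map_mono (map_toSec_le I W (PrimeSpectrum.zeroLocus I) fun q hq _ a ha => hq ha)).trans
        (Ideal.map_le_iff_le_comap.mpr fun t ht => app_mem_van π (fun y _ _ => ?_) ht)
      rw [← hX.2.1]; exact ⟨y, rfl⟩
    have h2 := mem_van.mp (sub_mem hs (hIv hr)) x hpW trivial
    rw [sub_sub_cancel] at h2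
    exact h2 ((mem_basicOpen_app π r x).mpr hb)
  letI := (toSec A W).toAlgebra
  haveI := isLocalization_toSec A (W := W) (f := f) rfl
  obtain ⟨⟨a, ⟨g, n, rfl⟩⟩, ha⟩ := IsLocalization.surj (Submonoid.powers f) r
  replace ha : r * toSec A W (f ^ n) = toSec A W a := ha
  have haI : f * a ∈ I.radical := by
    rw [Ideal.radical_eq_sInf, Submodule.mem_sInf]
    rintro P ⟨hP, hPp⟩
    by_cases hf : f ∈ P
    · exact Ideal.mul_mem_right _ P hf
    refine Ideal.mul_mem_left P _ ?_
    have hpW : (⟨P, hPp⟩ : PrimeSpectrum A) ∈ W := hf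
    have := hrW ⟨P, hPp⟩ hP hpW
    by_contra haP
    have hba := (mem_basicOpen_toSec W a ⟨P, hPp⟩).mpr ⟨hpW, haP⟩
    rw [← ha, RingedSpace.basicOpen_mul] at hba
    exact this hba.1
  have hsec : φ a = pa π W r * φ (f ^ n) := by
    rw [hφ, ← app_comp_toSec]
    simp only [RingHom.comp_apply]
    rw [← ha, map_mul]
  have hu : IsUnit (φ (f * f ^ n)) := by
    rw [← pow_succ', map_pow]
    exact (hX.2.2 f).1.pow _
  have hπr : pa π W r ∈ (I.map φ).radical := by
    refine (Ideal.unit_mul_mem_iff_mem _ hu).mp ?_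
    have : φ (f * f ^ n) * pa π W r = φ (f * a) := by
      rw [map_mul φ f a, hsec, map_mul]; ring
    rw [this]
    exact Ideal.map_radical_le φ (Ideal.mem_map_of_mem φ haI)
  have := add_mem (Ideal.le_radical hr) hπr
  rwa [sub_add_cancel] at this

theorem henselianRing_van_dOpen {I : Ideal A} {X : LocallyRingedSpace.{u}}
    {π : X ⟶ _root_.HensSch.specLRS A} (hX : _root_.HensSch.IsSph A I X π) {V : Opens X} {f : A}
    (hV : V = _root_.HensSch.dOpen π f) : HenselianRing (X.presheaf.obj (op V)) (van X V Set.univ) := by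
  subst hV
  haveI := (hX.2.2 f).2.1
  haveI := henselianRing_radical (I.map (_root_.HensSch.secMap π (PrimeSpectrum.basicOpen f)))
  exact henselianRing_of_le (van_le_radical hX f)

end SpecSide

/-! ### Henselian pairs of sections -/

section Local

variable {Z : LocallyRingedSpace.{u}}

theorem henselianRing_van_of_isOpenImmersion {U : LocallyRingedSpace.{u}} (i : U ⟶ Z)
    [LocallyRingedSpace.IsOpenImmersion i] (V : Opens Z) (hV : (V : Set Z) ⊆ Set.range i.base)
    [HenselianRing (U.presheaf.obj (op ((Opens.map i.base).obj V)))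
      (van U ((Opens.map i.base).obj V) Set.univ)] :
    HenselianRing (Z.presheaf.obj (op V)) (van Z V Set.univ) := by
  haveI : IsIso (i.c.app (op V)) := PresheafedSpace.IsOpenImmersion.c_iso' i.toHom ((Opens.map i.base).obj V)
    (Opens.ext (Set.image_preimage_eq_of_subset hV).symm)
  let e : (Z.presheaf.obj (op V) : Type u) ≃+* U.presheaf.obj (op ((Opens.map i.base).obj V)) :=
    (asIso (i.c.app (op V))).commRingCatIsoToRingEquiv
  have he : van Z V Set.univ = (van U ((Opens.map i.base).obj V) Set.univ).comap e.toRingHom := by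
    ext s
    simp only [Ideal.mem_comap, mem_van]
    refine ⟨fun h x hx _ hb => h _ hx trivial ((mem_basicOpen_app i s x).mp hb), fun h z hz _ hb => ?_⟩
    obtain ⟨x, rfl⟩ := hV hz
    exact h x hz trivial ((mem_basicOpen_app i s x).mpr hb)
  rw [he]
  exact henselianRing_of_equiv e _

/-- Henselianity of the sections of vanishing elements is local. -/
theorem henselianRing_van_of_basis
    (H : ∀ z : Z, ∀ W : Opens Z, z ∈ W → ∃ V ≤ W, z ∈ V ∧
      HenselianRing (Z.presheaf.obj (op V)) (van Z V Set.univ))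
    (W : Opens Z) : HenselianRing (Z.presheaf.obj (op W)) (van Z W Set.univ) where
  jac := van_le_jacobson W
  is_henselian p hp a₀ h₀ hd := by
    have hd' : IsUnit (p.derivative.eval a₀) := isUnit_of_isUnit_mk (van_le_jacobson W) hd
    choose V hVW hzV hVh using fun z : W => H z.1 W z.2
    let ρ : ∀ {U : Opens Z}, U ≤ W → ((Z.presheaf.obj (op W) : Type u) →+* Z.presheaf.obj (op U)) :=
      fun h => (Z.presheaf.map (homOfLE h).op).hom
    have hev : ∀ {U : Opens Z} (h : U ≤ W) (q : Polynomial (Z.presheaf.obj (op W) : Type u)) a,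
        (q.map (ρ h)).eval (ρ h a) = ρ h (q.eval a) :=
      fun h q a => by rw [Polynomial.eval_map, Polynomial.eval₂_at_apply]
    have hroot : ∀ z : W, ∃ r, (p.map (ρ (hVW z))).IsRoot r ∧
        r - ρ (hVW z) a₀ ∈ van Z (V z) Set.univ := fun z => by
      haveI := hVh z
      refine HenselianRing.is_henselian _ (hp.map _) _ (by rw [hev]; exact res_mem_van _ h₀) ?_
      rw [Polynomial.derivative_map, hev]
      exact (hd'.map _).map _
    choose r hr hr' using hroot
    have hcov : W ≤ iSup V := fun z hz => Opens.mem_iSup.mpr ⟨⟨z, hz⟩, hzV ⟨z, hz⟩⟩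
    have hc : TopCat.Presheaf.IsCompatible Z.presheaf V r := by
      intro x y
      have hxy : V x ⊓ V y ≤ W := inf_le_left.trans (hVW x)
      have res : ∀ (w : W) (k : V x ⊓ V y ⟶ V w),
          (Z.presheaf.map k.op).hom.comp (ρ (hVW w)) = ρ hxy := fun w k => by
        rw [← CommRingCat.hom_comp, ← Z.presheaf.map_comp]
        exact congrArg (fun l => (Z.presheaf.map l).hom) (Subsingleton.elim _ _)
      have key : ∀ (w : W) (k : V x ⊓ V y ⟶ V w),
          (p.map (ρ hxy)).IsRoot ((Z.presheaf.map k.op).hom (r w)) ∧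
            (Z.presheaf.map k.op).hom (r w) - ρ hxy a₀ ∈ van Z (V x ⊓ V y) Set.univ := fun w k => by
        refine ⟨?_, ?_⟩
        · rw [← res w k, ← Polynomial.map_map]
          exact (hr w).map
        · rw [← res w k, RingHom.comp_apply, ← map_sub]
          exact res_mem_van k (hr' w)
      obtain ⟨hrx, hrx'⟩ := key x (Opens.infLELeft (V x) (V y))
      obtain ⟨hry, hry'⟩ := key y (Opens.infLERight (V x) (V y))
      refine root_unique (van_le_jacobson _) _ hry hrx ?_ ?_
      · simpa using sub_mem hrx' hry'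
      · refine IsUnit.map _ (isUnit_of_sub_mem (van_le_jacobson (V x ⊓ V y)) (hd'.map (ρ hxy)) ?_)
        rw [← hev, ← Polynomial.derivative_map]
        exact Ideal.mem_of_dvd _ (Polynomial.sub_dvd_eval_sub _ _ _) hry'
    obtain ⟨a, ha, -⟩ := Z.sheaf.existsUnique_gluing' V W (fun z => homOfLE (hVW z)) hcov r hc
    replace ha : ∀ z, ρ (hVW z) a = r z := ha
    refine ⟨a, ?_, ?_⟩
    · refine Z.sheaf.eq_of_locally_eq' V W (fun z => homOfLE (hVW z)) hcov _ _ fun z => ?_
      show ρ (hVW z) (p.eval a) = ρ (hVW z) 0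
      rw [← hev, ha z, map_zero]
      exact hr z
    · refine mem_van.mpr fun z hz _ hb => ?_
      have h2 := mem_van.mp (hr' ⟨z, hz⟩) z (hzV ⟨z, hz⟩) trivial
      rw [← ha ⟨z, hz⟩, ← map_sub] at h2
      exact h2 ((mem_basicOpen_res _ _ z).mpr ⟨hzV ⟨z, hz⟩, hb⟩)

/-- On a Henselian scheme the sections vanishing at all points form a Henselian pair. -/
theorem henselianRing_van (hZ : _root_.HensSch.IsHensScheme Z) (W : Opens Z) :
    HenselianRing (Z.presheaf.obj (op W)) (van Z W Set.univ) := by
  refine henselianRing_van_of_basis (fun z W' hz => ?_) W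
  obtain ⟨U, i, hi, ⟨x, rfl⟩, A, _, I, π, -, -, hU⟩ := hZ z
  obtain ⟨O, hO, hOW⟩ := hU.1.isInducing.isOpen_iff.mp ((Opens.map i.base).obj W').2
  have hxO : π.base x ∈ O := by
    have : x ∈ π.base ⁻¹' O := hOW ▸ hz
    exact this
  obtain ⟨_, ⟨f, rfl⟩, hxf, hfO⟩ :=
    PrimeSpectrum.isTopologicalBasis_basic_opens.exists_subset_of_mem_open hxO hO
  haveI := hi
  let V : Opens Z := (LocallyRingedSpace.IsOpenImmersion.opensFunctor i).obj (_root_.HensSch.dOpen π f)
  have hinj : Function.Injective i.base := hi.base_open.injective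
  refine ⟨V, ?_, ⟨x, hxf, rfl⟩, ?_⟩
  · rintro _ ⟨y, hy, rfl⟩
    have : y ∈ π.base ⁻¹' O := hfO hy
    rw [hOW] at this
    exact this
  · haveI : HenselianRing (U.presheaf.obj (op ((Opens.map i.base).obj V)))
        (van U ((Opens.map i.base).obj V) Set.univ) :=
      henselianRing_van_dOpen hU (f := f) (Opens.ext (Set.preimage_image_eq _ hinj))
    exact henselianRing_van_of_isOpenImmersion i V (Set.image_subset_range _ _)

end Local

end Groth.Agent.Lib.HensSch.Sections
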