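import Groth.Agent.Lib.HensSch.SphSections

/-!
# Global sections of `M~` on the affine Henselian spectrum of a Henselian pair
-/

universe u

open CategoryTheory Opposite TopologicalSpace AlgebraicGeometry Topology
open scoped TensorProduct

set_option linter.style.haveILetI false

namespace Groth.Agent.Lib.HensSch.SphSections

variable {A : Type u} [CommRing A] {I : Ideal A} {X : LocallyRingedSpace.{u}}
  {π : X ⟶ _root_.HensSch.specLRS A} (M : ModuleCat.{u} A)

lemma rsG_self {U : Opens X.toTopCat} (x : GSec π M U) : rsG π M (le_refl U) x = x :=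
  ConcreteCategory.congr_hom
    (((RingedMod.Stalk.toP X.sheaf).obj (_root_.HensSch.sphTilde π M)).presheaf.map_id (op U)) x

lemma preimage_top_le (π : X ⟶ _root_.HensSch.specLRS A) :
    (Opens.map π.base).obj ⊤ ≤ dO π 1 := fun y _ =>
  (mem_dO 1 y).mpr ((Ideal.ne_top_iff_one _).mp (π.base y).2.ne_top)

theorem bijective_algebraMap_sec_one (hX : _root_.HensSch.IsSph A I X π) [hA : HenselianRing A I] :
    Function.Bijective (algebraMap A (Sec π (dO π 1))) := by
  obtain ⟨-, hh, huniv⟩ := isHensAway_sec hX 1
  obtain ⟨σ, hσ, -⟩ := huniv A I (RingHom.id A) hA (by rw [Ideal.map_id]) isUnit_one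
  refine ⟨fun a b h => ?_, fun x => ⟨σ x, ?_⟩⟩
  · have := congrArg σ h
    rwa [← RingHom.comp_apply, ← RingHom.comp_apply, hσ] at this
  · have h1 : (algebraMap A (Sec π (dO π 1))).comp σ = RingHom.id _ := by
      refine (huniv _ _ (algebraMap A (Sec π (dO π 1))) hh le_rfl
        (isUnit_one.map _)).unique ?_ (RingHom.id_comp _)
      rw [RingHom.comp_assoc, hσ, RingHom.comp_id]
    exact RingHom.congr_fun h1 x

/-- `M → Γ(X, M~)` is bijective for a Henselian pair. -/
theorem bijective_theta0 (hX : _root_.HensSch.IsSph A I X π) [HenselianRing A I] :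
    Function.Bijective (theta0 π M) := by
  let e : A ≃ₗ[A] Sec π (dO π 1) :=
    LinearEquiv.ofBijective (Algebra.linearMap A _) (bijective_algebraMap_sec_one hX)
  let e' : M ≃ₗ[A] Sec π (dO π 1) ⊗[A] M := (TensorProduct.lid A M).symm.trans (e.rTensor M)
  have h1 : Function.Bijective (theta π M (dO π 1)) := by
    have : ⇑(theta π M (dO π 1)) = ⇑(Theta π M (dO π 1)) ∘ ⇑e' := funext fun m => by
      simp [e', e, Theta_tmul]
    rw [this]
    exact (bijective_Theta hX M 1).comp e'.bijective
  have h2 : Function.Bijective (rsG π M (le_preimage_top π (dO π 1))) := by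
    refine Function.bijective_iff_has_inverse.mpr ⟨rsG π M (preimage_top_le π), fun x => ?_, fun x => ?_⟩
    · rw [rsG_rsG]; exact rsG_self M x
    · rw [rsG_rsG]; exact rsG_self M x
  exact (Function.Bijective.of_comp_iff' h2 _).mp h1

end Groth.Agent.Lib.HensSch.SphSections
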