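import Groth.Agent.Lib.HensSch.SphGlobal
import Groth.Agent.Lib.Henselian.Pair

/-!
# `M~` and module-finite maps of Henselian pairs

For `B` integral over `A` and `φ : Sph B ⟶ Sph A` over `Spec B ⟶ Spec A`, the natural map
`(N_A)~ ⟶ φ_* (N~)` is an isomorphism (`exists_iso_push`).
-/

universe u

open CategoryTheory Opposite TopologicalSpace AlgebraicGeometry Topology
open scoped TensorProduct

set_option linter.style.haveILetI false

namespace Groth.Agent.Lib.HensSch.SphSections

open Groth.Agent.Lib.RingedMod Groth.Agent.Lib.Henselian.Pair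

variable {A B : Type u} [CommRing A] [CommRing B] [Algebra A B] {I : Ideal A}
  {X Y : LocallyRingedSpace.{u}} {πA : X ⟶ _root_.HensSch.specLRS A} {πB : Y ⟶ _root_.HensSch.specLRS B}
  {φ : Y ⟶ X} (hφ : φ ≫ πA = πB ≫ (Spec.map (CommRingCat.ofHom (algebraMap A B))).toLRSHom)

/-- The inverse image open. -/
abbrev preU (φ : Y ⟶ X) (U : Opens X.toTopCat) : Opens Y.toTopCat := (Opens.map φ.base).obj U

/-- The map of sections. -/
noncomputable def phi (φ : Y ⟶ X) (U : Opens X.toTopCat) : Sec πA U →+* Sec πB (preU φ U) :=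
  (φ.c.app (op U)).hom

lemma phi_rs {U V : Opens X.toTopCat} (h : V ≤ U) (s : Sec πA U) :
    phi (πB := πB) φ V (rs πA h s) = rs πB (fun _ hy => h hy) (phi φ U s) :=
  congrArg (fun k => k.hom s) (φ.c.naturality (homOfLE h).op)

include hφ in
lemma phi_algebraMap (U : Opens X.toTopCat) (a : A) :
    phi φ U (algebraMap A (Sec πA U) a) = algebraMap B (Sec πB (preU φ U)) (algebraMap A B a) := by
  let W : Opens (_root_.HensSch.specLRS A).toTopCat := ⊤
  let z := (Scheme.ΓSpecIso (CommRingCat.of A)).inv.hom a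
  have h1 := congrArg (fun k => k.hom z)
    (PresheafedSpace.congr_app (congrArg (fun h : Y ⟶ _ => h.toShHom.hom) hφ) (op W))
  have h2 : (Spec.map (CommRingCat.ofHom (algebraMap A B))).appTop z =
      (Scheme.ΓSpecIso (CommRingCat.of B)).inv.hom (algebraMap A B a) :=
    (congrArg (fun k => k.hom a) (Scheme.ΓSpecIso_inv_naturality (CommRingCat.ofHom (algebraMap A B)))).symm
  show (φ.c.app (op U)).hom ((X.presheaf.map (homOfLE (le_preimage_top πA U)).op).hom
    ((πA.c.app (op ⊤)).hom z)) = _
  refine (congrArg (fun k => k.hom ((πA.c.app (op ⊤)).hom z))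
    (φ.c.naturality (homOfLE (le_preimage_top πA U)).op)).trans ?_
  refine (congrArg (Y.presheaf.map ((Opens.map φ.base).map (homOfLE (le_preimage_top πA U))).op).hom h1).trans ?_
  show (Y.presheaf.map _).hom ((Y.presheaf.map _).hom ((πB.c.app (op ⊤)).hom
    ((Spec.map (CommRingCat.ofHom (algebraMap A B))).appTop z))) = _
  rw [← CommRingCat.comp_apply, ← Functor.map_comp, h2]
  rfl

include hφ in
lemma base_comm (y : Y) :
    πA.base (φ.base y) = PrimeSpectrum.comap (algebraMap A B) (πB.base y) :=
  congrArg (fun h : Y ⟶ _ => h.base y) hφ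

include hφ in
lemma preU_dO (f : A) : preU φ (dO πA f) = dO πB (algebraMap A B f) :=
  Opens.ext (Set.ext fun y => by
    show f ∉ (πA.base (φ.base y)).asIdeal ↔ algebraMap A B f ∉ (πB.base y).asIdeal
    rw [base_comm hφ]
    exact Iff.rfl)

variable (hX : _root_.HensSch.IsSph A I X πA)
  (hY : _root_.HensSch.IsSph B (I.map (algebraMap A B)) Y πB)

include hY in
lemma isHensAway_sec' {U : Opens Y.toTopCat} {f : B} (hU : U = dO πB f) :
    _root_.HensSch.IsHensAway B (I.map (algebraMap A B)) f (Sec πB U) (algebraMap B (Sec πB U)) := by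
  subst hU
  exact isHensAway_sec hY f

include hφ hX hY in
/-- Sections commute with integral base change. -/
theorem exists_secEquiv [Algebra.IsIntegral A B] (f : A) :
    ∃ e : B ⊗[A] Sec πA (dO πA f) ≃ₗ[B] Sec πB (preU φ (dO πA f)),
      ∀ b s, e (b ⊗ₜ[A] s) = b • phi φ (dO πA f) s := by
  let V := preU φ (dO πA f)
  letI : Algebra A (Sec πB V) := ((algebraMap B (Sec πB V)).comp (algebraMap A B)).toAlgebra
  haveI : IsScalarTower A B (Sec πB V) := IsScalarTower.of_algebraMap_eq fun _ => rfl
  let φA : Sec πA (dO πA f) →ₐ[A] Sec πB V :=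
    { phi (πB := πB) φ (dO πA f) with commutes' := fun a => phi_algebraMap hφ (dO πA f) a }
  let S := Sec πA (dO πA f)
  let q : B ⊗[A] S →ₐ[B] Sec πB V :=
    Algebra.TensorProduct.lift (Algebra.ofId B (Sec πB V)) φA fun _ _ => mul_comm _ _
  have hq : ∀ b s, q (b ⊗ₜ[A] s) = b • phi φ (dO πA f) s := fun b s => by
    rw [Algebra.TensorProduct.lift_tmul, Algebra.smul_def]
    rfl
  obtain ⟨huA, hhA, hupA⟩ := isHensAway_sec hX f
  obtain ⟨huB, hhB, hupB⟩ := isHensAway_sec' hY (preU_dO hφ f)
  -- the tensor product is the Henselization as well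
  haveI hT : HenselianRing (B ⊗[A] S) ((I.map (algebraMap A B)).map (algebraMap B (B ⊗[A] S))) := by
    haveI := hhA
    letI : Algebra S (B ⊗[A] S) := Algebra.TensorProduct.rightAlgebra
    haveI : Algebra.IsIntegral S (B ⊗[A] S) := by
      refine ⟨fun x => ?_⟩
      induction x using TensorProduct.induction_on with
      | zero => exact isIntegral_zero
      | add a b ha hb => exact ha.add hb
      | tmul b s =>
        have h1 : IsIntegral S ((Algebra.TensorProduct.includeLeft : B →ₐ[A] B ⊗[A] S) b) :=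
          (Algebra.IsIntegral.isIntegral (R := A) b).map_of_comp_eq
            (φ := algebraMap A S) (ψ := (Algebra.TensorProduct.includeLeft : B →ₐ[A] B ⊗[A] S).toRingHom)
            (RingHom.ext fun a => by
              show (1 : B) ⊗ₜ[A] algebraMap A S a = algebraMap A B a ⊗ₜ[A] (1 : S)
              rw [Algebra.algebraMap_eq_smul_one, Algebra.algebraMap_eq_smul_one, TensorProduct.tmul_smul,
                TensorProduct.smul_tmul'])
        have h2 : b ⊗ₜ[A] s = (Algebra.TensorProduct.includeLeft : B →ₐ[A] B ⊗[A] S) b *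
            algebraMap S (B ⊗[A] S) s := by
          show _ = (b ⊗ₜ[A] (1 : S)) * ((1 : B) ⊗ₜ[A] s)
          simp
        rw [h2]
        exact h1.mul isIntegral_algebraMap
    have h := henselianRing_of_isIntegral (I.map (algebraMap A S)) (B ⊗[A] S)
    rw [Ideal.map_map] at h ⊢
    have e : (algebraMap S (B ⊗[A] S)).comp (algebraMap A S) =
        (algebraMap B (B ⊗[A] S)).comp (algebraMap A B) := RingHom.ext fun a => by
      show (1 : B) ⊗ₜ[A] algebraMap A S a = algebraMap A B a ⊗ₜ[A] (1 : S)
      rw [Algebra.algebraMap_eq_smul_one, Algebra.algebraMap_eq_smul_one, TensorProduct.tmul_smul,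
        TensorProduct.smul_tmul']
    rwa [e] at h
  have huT : IsUnit (algebraMap B (B ⊗[A] S) (algebraMap A B f)) := by
    have : algebraMap B (B ⊗[A] S) (algebraMap A B f) = (1 : B) ⊗ₜ[A] algebraMap A S f := by
      show algebraMap A B f ⊗ₜ[A] (1 : S) = _
      rw [Algebra.algebraMap_eq_smul_one, Algebra.algebraMap_eq_smul_one, TensorProduct.tmul_smul,
        TensorProduct.smul_tmul']
    rw [this]
    exact huA.map (Algebra.TensorProduct.includeRight : S →ₐ[A] B ⊗[A] S)
  obtain ⟨σ, hσ, -⟩ := hupB (B ⊗[A] S) _ (algebraMap B (B ⊗[A] S)) hT le_rfl huT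
  have hqσ : q.toRingHom.comp σ = RingHom.id _ := by
    refine (hupB (Sec πB V) _ (algebraMap B (Sec πB V)) hhB le_rfl huB).unique ?_ (RingHom.id_comp _)
    rw [RingHom.comp_assoc, hσ, AlgHom.toRingHom_eq_coe, AlgHom.comp_algebraMap]
  let σ' : Sec πB V →ₐ[B] B ⊗[A] S := { σ with commutes' := RingHom.congr_fun hσ }
  have hσq : σ'.comp q = AlgHom.id B (B ⊗[A] S) := by
    refine Algebra.TensorProduct.ext (AlgHom.ext fun b => ?_) (AlgHom.ext fun s => ?_)
    · show σ (q (b ⊗ₜ[A] (1 : S))) = _
      rw [hq, map_one, Algebra.smul_def, mul_one]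
      exact RingHom.congr_fun hσ b
    · have h : (σ.comp (phi φ (dO πA f))) = (Algebra.TensorProduct.includeRight : S →ₐ[A] B ⊗[A] S).toRingHom := by
        refine (hupA (B ⊗[A] S) _ ((Algebra.TensorProduct.includeRight : S →ₐ[A] B ⊗[A] S).toRingHom.comp
          (algebraMap A S)) hT ?_
          (huA.map (Algebra.TensorProduct.includeRight : S →ₐ[A] B ⊗[A] S).toRingHom)).unique ?_ rfl
        · rw [AlgHom.toRingHom_eq_coe, AlgHom.comp_algebraMap, Ideal.map_map, ← IsScalarTower.algebraMap_eq]
        · refine RingHom.ext fun a => ?_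
          show σ (phi φ (dO πA f) (algebraMap A S a)) = (1 : B) ⊗ₜ[A] algebraMap A S a
          rw [phi_algebraMap hφ]
          refine (RingHom.congr_fun hσ (algebraMap A B a)).trans ?_
          show algebraMap A B a ⊗ₜ[A] (1 : S) = _
          rw [Algebra.algebraMap_eq_smul_one, Algebra.algebraMap_eq_smul_one, TensorProduct.tmul_smul,
            TensorProduct.smul_tmul']
      show σ (q ((1 : B) ⊗ₜ[A] s)) = _
      rw [hq, one_smul]
      exact RingHom.congr_fun h s
  have hbij : Function.Bijective q :=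
    ⟨Function.LeftInverse.injective (g := σ') fun x => AlgHom.congr_fun hσq x,
      fun x => ⟨σ x, RingHom.congr_fun hqσ x⟩⟩
  exact ⟨LinearEquiv.ofBijective q.toLinearMap hbij, hq⟩

variable (N : ModuleCat.{u} B)

/-- The underlying `A`-module. -/
noncomputable abbrev NA : ModuleCat.{u} A := (ModuleCat.restrictScalars (algebraMap A B)).obj N

noncomputable instance : Module B (NA (A := A) N) := inferInstanceAs (Module B N)

instance : IsScalarTower A B (NA (A := A) N) := IsScalarTower.of_algebraMap_smul fun _ _ => rfl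

include hφ hX hY in
theorem bijective_cmp [Algebra.IsIntegral A B] (f : A) :
    ∃ c : Sec πA (dO πA f) ⊗[A] NA (A := A) N → Sec πB (preU φ (dO πA f)) ⊗[B] N,
      Function.Bijective c ∧ (∀ x y, c (x + y) = c x + c y) ∧ c 0 = 0 ∧
        ∀ s n, c (s ⊗ₜ[A] n) = phi φ (dO πA f) s ⊗ₜ[B] (show N from n) := by
  obtain ⟨e, he⟩ := exists_secEquiv hφ hX hY f
  let c : Sec πA (dO πA f) ⊗[A] NA (A := A) N ≃+ Sec πB (preU φ (dO πA f)) ⊗[B] NA (A := A) N :=
    (TensorProduct.comm A _ _).toAddEquiv.trans
      (((TensorProduct.AlgebraTensorModule.cancelBaseChange A B B (NA (A := A) N)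
        (Sec πA (dO πA f))).symm.trans (e.lTensor (NA (A := A) N))).trans
          (TensorProduct.comm B _ _)).toAddEquiv
  refine ⟨c, c.bijective, map_add c, map_zero c, fun s n => ?_⟩
  simp [c, he]
  rfl

lemma hom_app_smul {M : ModuleCat.{u} A} {M' : ModuleCat.{u} B}
    (e : _root_.HensSch.sphTilde πA M ⟶ (_root_.HensSch.pushMod φ).obj (_root_.HensSch.sphTilde πB M'))
    (U : Opens X.toTopCat) (s : Sec πA U) (x : GSec πA M U) :
    (show GSec πB M' (preU φ U) from (e.val.app (op U)).hom (s • x)) =
      phi (πB := πB) φ U s • (show GSec πB M' (preU φ U) from (e.val.app (op U)).hom x) :=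
  (e.val.app (op U)).hom.map_smul (show Stalk.RU X.sheaf U from s) x

lemma hom_app_res {M : ModuleCat.{u} A} {M' : ModuleCat.{u} B}
    (e : _root_.HensSch.sphTilde πA M ⟶ (_root_.HensSch.pushMod φ).obj (_root_.HensSch.sphTilde πB M'))
    {U V : Opens X.toTopCat} (h : V ≤ U) (x : GSec πA M U) :
    (show GSec πB M' (preU φ V) from (e.val.app (op V)).hom (rsG πA M h x)) =
      rsG πB M' (fun _ hy => h hy) (show GSec πB M' (preU φ U) from (e.val.app (op U)).hom x) :=
  PresheafOfModules.naturality_apply e.val (homOfLE h).op x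

include hφ hX hY in
theorem bijective_app [Algebra.IsIntegral A B]
    (e : _root_.HensSch.sphTilde πA (NA (A := A) N) ⟶
      (_root_.HensSch.pushMod φ).obj (_root_.HensSch.sphTilde πB N))
    (he : ∀ n : N, (e.val.app (op ((Opens.map πA.base).obj ⊤))).hom (theta0 πA (NA (A := A) N) n) =
      theta0 πB N n) (f : A) :
    Function.Bijective fun x : GSec πA (NA (A := A) N) (dO πA f) =>
      (show GSec πB N (preU φ (dO πA f)) from (e.val.app (op (dO πA f))).hom x) := by
  set V := preU φ (dO πA f)
  have hB : Function.Bijective (Theta πB N V) := by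
    have : ∀ (U : Opens Y.toTopCat) (g : B), U = dO πB g → Function.Bijective (Theta πB N U) := by
      rintro U g rfl
      exact bijective_Theta hY N g
    exact this V _ (preU_dO hφ f)
  obtain ⟨c, hc, hcadd, hc0, hctmul⟩ := bijective_cmp hφ hX hY N f
  let ev : GSec πA (NA (A := A) N) (dO πA f) →+ GSec πB N V :=
    { toFun := fun x => (e.val.app (op (dO πA f))).hom x
      map_zero' := map_zero (e.val.app (op (dO πA f))).hom
      map_add' := map_add (e.val.app (op (dO πA f))).hom }
  have key : ∀ t, ev (Theta πA (NA (A := A) N) (dO πA f) t) = Theta πB N V (c t) := by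
    intro t
    induction t using TensorProduct.induction_on with
    | zero => rw [hc0, map_zero, map_zero, map_zero]
    | add a b ha hb => rw [hcadd, map_add, map_add, map_add, ha, hb]
    | tmul s n =>
      rw [hctmul, Theta_tmul, Theta_tmul]
      refine (hom_app_smul e _ s _).trans (congrArg (phi φ (dO πA f) s • ·) ?_)
      refine (hom_app_res e (le_preimage_top πA _) (theta0 πA (NA (A := A) N) n)).trans ?_
      exact congrArg (rsG πB N (le_preimage_top πB V)) (he n)
  show Function.Bijective ev
  have : ⇑ev ∘ ⇑(Theta πA (NA (A := A) N) (dO πA f)) = ⇑(Theta πB N V) ∘ c := funext key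
  exact (Function.Bijective.of_comp_iff _ (bijective_Theta hX _ f)).mp (this ▸ hB.comp hc)

include hX in
/-- A map of modules bijective on the distinguished opens is an isomorphism. -/
theorem isIso_of_basis {F G : ModSite.Mod X.sheaf} (e : F ⟶ G)
    (h : ∀ f : A, Function.Bijective (e.val.app (op (dO πA f))).hom) : IsIso e := by
  refine (Stalk.isIso_iff_stk e).mpr fun x => ?_
  rw [ConcreteCategory.isIso_iff_bijective]
  refine ⟨(injective_iff_map_eq_zero' (Stalk.stMap ((Stalk.toP X.sheaf).map e))).mpr fun v =>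
    ⟨fun hv => ?_, fun hv => by rw [hv, map_zero]⟩, fun v => ?_⟩
  · obtain ⟨U, hU, s, rfl⟩ := Stalk.exists_germ v
    rw [Stalk.stMap_germ, ← map_zero (TopCat.Presheaf.germ
      ((Stalk.toP X.sheaf).obj G).presheaf U x hU).hom] at hv
    obtain ⟨W, hxW, i, j, hW⟩ := TopCat.Presheaf.germ_eq _ x hU hU _ _ hv
    obtain ⟨g, hxg, hg⟩ := exists_dO hX W x hxW
    rw [← Stalk.germ_res (hg.trans i.le) hxg]
    have h0 : Stalk.res ((Stalk.toP X.sheaf).obj F) (hg.trans i.le) s = 0 := by
      refine (h g).1 (Eq.trans ?_ (map_zero _).symm)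
      refine (PresheafOfModules.naturality_apply e.val (homOfLE (hg.trans i.le)).op s).trans ?_
      refine (ConcreteCategory.congr_hom (((Stalk.toP X.sheaf).obj G).presheaf.map_comp i.op (homOfLE hg).op)
        ((e.val.app (op U)).hom s)).trans ?_
      refine (congrArg (((Stalk.toP X.sheaf).obj G).presheaf.map (homOfLE hg).op).hom hW).trans ?_
      refine (congrArg (((Stalk.toP X.sheaf).obj G).presheaf.map (homOfLE hg).op).hom
        (map_zero (((Stalk.toP X.sheaf).obj G).presheaf.map j.op).hom)).trans (map_zero _)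
    rw [h0]
    exact map_zero _
  · obtain ⟨U, hU, s, rfl⟩ := Stalk.exists_germ v
    obtain ⟨g, hxg, hg⟩ := exists_dO hX U x hU
    obtain ⟨t, ht⟩ := (h g).2 (Stalk.res ((Stalk.toP X.sheaf).obj G) hg s)
    refine ⟨Stalk.germ (P := (Stalk.toP X.sheaf).obj F) hxg t,
      (Stalk.stMap_germ ((Stalk.toP X.sheaf).map e) hxg t).trans ?_⟩
    exact (congrArg (Stalk.germ hxg) ht).trans (Stalk.germ_res hg hxg s)

include hφ hX hY in
/-- The natural map `(N_A)~ ⟶ φ_* N~` is an isomorphism. -/
theorem exists_iso_push [Algebra.IsIntegral A B] :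
    ∃ e : _root_.HensSch.sphTilde πA (NA (A := A) N) ≅
        (_root_.HensSch.pushMod φ).obj (_root_.HensSch.sphTilde πB N),
      ∀ n : N, (e.hom.val.app (op ⊤)).hom (theta0 πA (NA (A := A) N) n) = theta0 πB N n := by
  let adj := (tilde.adjunction (R := CommRingCat.of A)).comp (_root_.HensSch.pullPushAdj πA)
  let G := (_root_.HensSch.pushMod φ).obj (_root_.HensSch.sphTilde πB N)
  let f : NA (A := A) N ⟶ (_root_.HensSch.pushMod πA ⋙ moduleSpecΓFunctor (R := CommRingCat.of A)).obj G :=
    ModuleCat.ofHom (X := NA (A := A) N)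
      (Y := (_root_.HensSch.pushMod πA ⋙ moduleSpecΓFunctor (R := CommRingCat.of A)).obj G)
      { toFun := fun (n : NA (A := A) N) => theta0 πB N (show N from n)
        map_add' := theta0_add πB N
        map_smul' := fun a n => by
          refine (theta0_smul πB N (algebraMap A B a) n).trans ?_
          refine congrArg (· • theta0 πB N (show N from n)) ?_
          refine Eq.trans ?_ ((phi_algebraMap hφ ((Opens.map πA.base).obj ⊤) a).symm.trans ?_)
          · exact (RingHom.congr_fun (congrArg CommRingCat.Hom.hom (Y.presheaf.map_id _)) _).symm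
          · refine congrArg (phi φ ((Opens.map πA.base).obj ⊤)) ?_
            exact RingHom.congr_fun (congrArg CommRingCat.Hom.hom (X.presheaf.map_id _)) _ }
  let e := (adj.homEquiv (NA (A := A) N) G).symm f
  have he : ∀ n : N, (e.val.app (op ((Opens.map πA.base).obj ⊤))).hom (theta0 πA (NA (A := A) N) n) =
      theta0 πB N n := fun n => by
    have h1 := congrArg (fun k => k.hom n)
      ((adj.homEquiv_unit (f := e)).symm.trans ((adj.homEquiv (NA (A := A) N) G).apply_symm_apply f))
    simp only [adj, Adjunction.comp_unit_app] at h1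
    exact h1
  haveI : IsIso e := isIso_of_basis hX e fun g => bijective_app hφ hX hY N e he g
  exact ⟨asIso e, he⟩

end Groth.Agent.Lib.HensSch.SphSections
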