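import Groth.Agent.Lib.HensSch.SphSectionsBasic
import Groth.Agent.Lib.HensSch.FamilyDescent

/-!
# `Γ(D(f) ∩ V(I), M~) = O(D(f) ∩ V(I)) ⊗_A M` on an affine Henselian spectrum

`bijective_Theta`; no Henselianity of `(A, I)` is needed.
-/

universe u

open CategoryTheory Opposite TopologicalSpace AlgebraicGeometry Topology
open scoped TensorProduct

set_option linter.style.haveILetI false

namespace Groth.Agent.Lib.HensSch.SphSections

open Groth.Agent.Lib.RingedMod Groth.Agent.Lib.HensSch.Descent Groth.Agent.Lib.HensSch.FamilyDescent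

variable {A : Type u} [CommRing A] {I : Ideal A} {X : LocallyRingedSpace.{u}}
  {π : X ⟶ _root_.HensSch.specLRS A} (hX : _root_.HensSch.IsSph A I X π) (M : ModuleCat.{u} A)

/-- The distinguished opens. -/
noncomputable abbrev dO (π : X ⟶ _root_.HensSch.specLRS A) (f : A) : Opens X.toTopCat :=
  _root_.HensSch.dOpen π f

lemma mem_dO (f : A) (y : X) : y ∈ dO π f ↔ f ∉ (π.base y).asIdeal := Iff.rfl

lemma dO_mul (f g : A) : dO π (f * g) = dO π f ⊓ dO π g :=
  Opens.ext (Set.ext fun y => by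
    show f * g ∉ _ ↔ f ∉ _ ∧ g ∉ _
    rw [(π.base y).2.mul_mem_iff_mem_or_mem, not_or])

include hX in
lemma isHensAway_sec (f : A) :
    _root_.HensSch.IsHensAway A I f (Sec π (dO π f)) (algebraMap A (Sec π (dO π f))) :=
  hX.2.2 f

include hX in
lemma exists_dO (W : Opens X.toTopCat) (y : X) (hy : y ∈ W) : ∃ g, y ∈ dO π g ∧ dO π g ≤ W := by
  obtain ⟨V, hV, hVW⟩ := hX.1.isInducing.isOpen_iff.mp W.2
  obtain ⟨_, ⟨g, rfl⟩, hg, hgV⟩ :=
    PrimeSpectrum.isTopologicalBasis_basic_opens.exists_subset_of_mem_open (hVW.ge hy) hV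
  exact ⟨g, hg, fun z hz => hVW.le (hgV hz)⟩

include hX in
lemma exists_dO_subcover (f : A) {g : {y : X // y ∈ dO π f} → A} (hg : ∀ y, y.1 ∈ dO π (g y)) :
    ∃ s : Finset {y : X // y ∈ dO π f}, ∀ y, y ∈ dO π f → ∃ i ∈ s, y ∈ dO π (g i) := by
  have hc : IsCompact (dO π f : Set X) := by
    rw [hX.1.isInducing.isCompact_iff]
    have : π.base '' (dO π f : Set X) =
        PrimeSpectrum.zeroLocus (I : Set A) ∩ (PrimeSpectrum.basicOpen f : Set (PrimeSpectrum A)) := by
      rw [show (dO π f : Set X) = π.base ⁻¹' (PrimeSpectrum.basicOpen f : Set (PrimeSpectrum A)) from rfl,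
        Set.image_preimage_eq_range_inter, hX.2.1]
      rfl
    rw [this]
    exact (PrimeSpectrum.isCompact_basicOpen f).inter_left (PrimeSpectrum.isClosed_zeroLocus _)
  obtain ⟨s, hs⟩ := hc.elim_finite_subcover (fun y => (dO π (g y) : Set X)) (fun y => (dO π (g y)).2)
    fun y hy => Set.mem_iUnion.mpr ⟨⟨y, hy⟩, hg ⟨y, hy⟩⟩
  refine ⟨s, fun y hy => ?_⟩
  obtain ⟨i, hi⟩ := Set.mem_iUnion.mp (hs hy)
  obtain ⟨his, hiy⟩ := Set.mem_iUnion.mp hi
  exact ⟨i, his, hiy⟩

include hX in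
lemma flat_Oy (y : X) : Module.Flat A (Oy π y) := by
  let p := π.base y
  let R := Stalk.Ox (_root_.HensSch.specLRS A).sheaf p
  let ρ : A →+* R := (StructureSheaf.toStalk A p).hom
  letI algR : Algebra A R := ρ.toAlgebra
  letI : Algebra R (Oy π y) := (Pullback.sm π y).toAlgebra
  haveI : IsScalarTower A R (Oy π y) := IsScalarTower.of_algebraMap_eq fun _ => rfl
  haveI : IsLocalization.AtPrime R p.asIdeal := StructureSheaf.IsLocalization.to_stalk A p
  haveI : Module.Flat A R := IsLocalization.flat R p.asIdeal.primeCompl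
  haveI : Module.Flat R (Oy π y) := Flat.flat_stalkMap_sph hX y
  exact Module.Flat.trans A R (Oy π y)

include hX in
lemma isUnit_rs_of_mem (f : A) (s : Sec π (dO π f)) (y : X) (hy : y ∈ dO π f)
    (hs : IsUnit (gy π hy s)) :
    ∃ (g : A) (h : dO π g ≤ dO π f), y ∈ dO π g ∧ IsUnit (rs π h s) := by
  let U₀ := X.toRingedSpace.basicOpen (U := dO π f) s
  have hyU : y ∈ U₀ := (X.toRingedSpace.mem_basicOpen (U := dO π f) s y hy).mpr hs
  obtain ⟨g, hyg, hgU⟩ := exists_dO hX U₀ y hyU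
  have hU₀ : U₀ ≤ dO π f := X.toRingedSpace.basicOpen_le (U := dO π f) s
  refine ⟨g, hgU.trans hU₀, hyg, X.toRingedSpace.isUnit_of_isUnit_germ (dO π g) _ fun z hz => ?_⟩
  have h1 := (X.toRingedSpace.mem_basicOpen (U := dO π f) s z (hU₀ (hgU hz))).mp (hgU hz)
  exact (iff_of_eq (congrArg IsUnit
    (TopCat.Presheaf.germ_res_apply X.presheaf (homOfLE (hgU.trans hU₀)) z hz s))).mpr h1

include hX in
/-- Elements of `O(D f) ⊗ M` vanishing at a point vanish nearby. -/
lemma exists_push_eq_zero (f : A) (t : Sec π (dO π f) ⊗[A] M) (y : X) (hy : y ∈ dO π f)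
    (ht : push M (gy π hy) t = 0) :
    ∃ (g : A) (h : dO π g ≤ dO π f), y ∈ dO π g ∧ push M (rs π h) t = 0 := by
  obtain ⟨E, _, _, _, φ, s, hs, -, -, -⟩ := exists_rep (M := M) (isHensAway_sec hX f) t
  letI : Algebra E (Oy π y) := ((gy π hy).comp φ).toRingHom.toAlgebra
  haveI : IsScalarTower A E (Oy π y) :=
    IsScalarTower.of_algebraMap_eq fun a => (((gy π hy).comp φ).commutes a).symm
  haveI := flat_Oy hX y
  haveI : Module.Flat E (Oy π y) := Algebra.FormallyUnramified.flat_of_restrictScalars A E (Oy π y)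
  obtain ⟨r, hr, hr0⟩ := KilledNear.of_flat (w := IsLocalRing.maximalIdeal (Oy π y)) (E := E)
    (T := Oy π y) (x := s) (by
      have : push M (IsScalarTower.toAlgHom A E (Oy π y)) s = 0 := by
        rw [← ht, ← hs, push_push]
        rfl
      rw [this]
      exact KilledNear.zero)
  have hu : IsUnit (gy π hy (φ r)) := IsLocalRing.notMem_maximalIdeal.mp hr
  obtain ⟨g, h, hyg, hunit⟩ := isUnit_rs_of_mem hX f (φ r) y hy hu
  refine ⟨g, h, hyg, hunit.smul_eq_zero.mp ?_⟩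
  rw [← push_smul, ← hs, ← push_smul, hr0, map_zero, map_zero]

/-- `O(D g) ⊗_{O(D f)} (O(D f) ⊗ M) = O(D g) ⊗ M`. -/
noncomputable def cbc {U V : Opens X.toTopCat} (h : V ≤ U) :
    letI := (rs π h).toRingHom.toAlgebra
    Sec π V ⊗[Sec π U] (Sec π U ⊗[A] M) ≃+ Sec π V ⊗[A] M :=
  letI := (rs π h).toRingHom.toAlgebra
  haveI : IsScalarTower A (Sec π U) (Sec π V) :=
    IsScalarTower.of_algebraMap_eq fun a => ((rs π h).commutes a).symm
  (TensorProduct.AlgebraTensorModule.cancelBaseChange A (Sec π U) (Sec π V) (Sec π V) M).toAddEquiv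

lemma cbc_tmul {U V : Opens X.toTopCat} (h : V ≤ U) (b : Sec π V) (s : Sec π U) (m : M) :
    letI := (rs π h).toRingHom.toAlgebra
    cbc M h (b ⊗ₜ[Sec π U] (s ⊗ₜ[A] m)) = (rs π h s * b) ⊗ₜ[A] m := by
  letI := (rs π h).toRingHom.toAlgebra
  haveI : IsScalarTower A (Sec π U) (Sec π V) :=
    IsScalarTower.of_algebraMap_eq fun a => ((rs π h).commutes a).symm
  simp only [cbc, LinearEquiv.coe_toAddEquiv, TensorProduct.AlgebraTensorModule.cancelBaseChange_tmul]
  rfl

lemma cbc_one_tmul {U V : Opens X.toTopCat} (h : V ≤ U) (t : Sec π U ⊗[A] M) :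
    letI := (rs π h).toRingHom.toAlgebra
    cbc M h ((1 : Sec π V) ⊗ₜ[Sec π U] t) = push M (rs π h) t := by
  letI := (rs π h).toRingHom.toAlgebra
  induction t using TensorProduct.induction_on with
  | zero => simp
  | add a b ha hb => simp only [TensorProduct.tmul_add, map_add, ha, hb]
  | tmul s m => simp [cbc_tmul]

lemma cbc_push {U V W : Opens X.toTopCat} (h : V ≤ U) (h' : W ≤ U) (k : W ≤ V) :
    letI := (rs π h).toRingHom.toAlgebra
    letI := (rs π h').toRingHom.toAlgebra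
    ∀ (r : Sec π V →ₐ[Sec π U] Sec π W), (∀ x, r x = rs π k x) →
      ∀ t : Sec π V ⊗[Sec π U] (Sec π U ⊗[A] M),
        cbc M h' (push (Sec π U ⊗[A] M) r t) = push M (rs π k) (cbc M h t) := by
  letI := (rs π h).toRingHom.toAlgebra
  letI := (rs π h').toRingHom.toAlgebra
  intro r hr t
  induction t using TensorProduct.induction_on with
  | zero => simp
  | add a b ha hb => simp only [map_add, ha, hb]
  | tmul b x =>
    induction x using TensorProduct.induction_on with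
    | zero => simp
    | add a c ha hc => simp only [TensorProduct.tmul_add, map_add, ha, hc]
    | tmul s m =>
      simp only [push, LinearMap.rTensor_tmul, AlgHom.toLinearMap_apply, cbc_tmul, hr, map_mul]
      rw [← AlgHom.comp_apply, rs_rs]

include hX in
lemma henselianRing_sec (f : A) :
    HenselianRing (Sec π (dO π f)) (I.map (algebraMap A (Sec π (dO π f)))) :=
  (isHensAway_sec hX f).2.1

include hX in
lemma isHensAway_rs {f g : A} (h : dO π g ≤ dO π f) :
    _root_.HensSch.IsHensAway (Sec π (dO π f)) (I.map (algebraMap A (Sec π (dO π f))))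
      (algebraMap A (Sec π (dO π f)) g) (Sec π (dO π g)) (rs π h).toRingHom := by
  obtain ⟨hu, hh, huniv⟩ := isHensAway_sec hX g
  refine ⟨?_, ?_, fun C _ K γ hC hK hγ => ?_⟩
  · exact ((rs π h).commutes g).symm ▸ hu
  · rw [Ideal.map_map, AlgHom.toRingHom_eq_coe, AlgHom.comp_algebraMap]
    exact hh
  · obtain ⟨-, -, hf⟩ := isHensAway_sec hX f
    obtain ⟨θ, hθ, hθu⟩ := huniv C K (γ.comp (algebraMap A _)) hC (by rw [← Ideal.map_map]; exact hK) hγ
    refine ⟨θ, ?_, fun θ' hθ' => hθu θ' ?_⟩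
    · refine (hf C K (γ.comp (algebraMap A _)) hC (by rw [← Ideal.map_map]; exact hK)
        ((isHensAway_sec hX f).1.map γ)).unique ?_ rfl
      rw [RingHom.comp_assoc, AlgHom.toRingHom_eq_coe, AlgHom.comp_algebraMap]
      exact hθ
    · rw [← hθ', RingHom.comp_assoc, AlgHom.toRingHom_eq_coe, AlgHom.comp_algebraMap]

include hX in
lemma hcov_of_cover (f : A) {κ : Type u} (g : κ → A) (hg : ∀ y, y ∈ dO π f → ∃ i, y ∈ dO π (g i))
    (q : Ideal (Sec π (dO π f))) (hq : q.IsPrime)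
    (hJ : I.map (algebraMap A (Sec π (dO π f))) ≤ q) :
    ∃ i, algebraMap A (Sec π (dO π f)) (g i) ∉ q := by
  let p : PrimeSpectrum A := ⟨q.comap (algebraMap A (Sec π (dO π f))), inferInstance⟩
  obtain ⟨y, hy⟩ : p ∈ Set.range π.base := by
    rw [hX.2.1]
    exact fun a ha => hJ (Ideal.mem_map_of_mem _ ha)
  have hyf : y ∈ dO π f := (mem_dO f y).mpr fun hmem => by
    rw [hy] at hmem
    exact hq.ne_top (q.eq_top_of_isUnit_mem hmem (isHensAway_sec hX f).1)
  obtain ⟨i, hi⟩ := hg y hyf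
  exact ⟨i, fun hmem => (mem_dO (g i) y).mp hi (by rw [hy]; exact hmem)⟩

include hX in
/-- An element of `O(D f) ⊗ M` vanishing at all points is zero. -/
lemma eq_zero_of_gy (f : A) (t : Sec π (dO π f) ⊗[A] M)
    (ht : ∀ y (hy : y ∈ dO π f), push M (gy π hy) t = 0) : t = 0 := by
  choose g hle hmem hzero using fun y : {y : X // y ∈ dO π f} =>
    exists_push_eq_zero hX M f t y.1 y.2 (ht y.1 y.2)
  obtain ⟨s, hs⟩ := exists_dO_subcover hX f hmem
  haveI := henselianRing_sec hX f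
  letI inst : ∀ i : {y // y ∈ s}, Algebra (Sec π (dO π f)) (Sec π (dO π (g i.1))) := fun i =>
    (rs π (hle i.1)).toRingHom.toAlgebra
  refine eq_zero_of_forall (J := I.map (algebraMap A (Sec π (dO π f))))
    (fun i : {y // y ∈ s} => algebraMap A (Sec π (dO π f)) (g i.1)) ?_
    (fun i => Sec π (dO π (g i.1))) (fun i => isHensAway_rs hX (hle i.1)) t fun i => ?_
  · intro q hq hJ
    exact hcov_of_cover hX f (fun i : {y // y ∈ s} => g i.1)
      (fun y hy => let ⟨i, hi, hiy⟩ := hs y hy; ⟨⟨i, hi⟩, hiy⟩) q hq hJ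
  · refine (cbc M (hle i.1)).injective ?_
    rw [cbc_one_tmul, map_zero]
    exact hzero i.1

include hX in
theorem injective_Theta (f : A) : Function.Injective (Theta π M (dO π f)) := by
  rw [injective_iff_map_eq_zero]
  intro t ht
  refine eq_zero_of_gy hX M f t fun y hy => (bijective_Psi π M y).1 ?_
  rw [map_zero]
  exact (gG_Theta π M hy t).symm.trans (by rw [ht, map_zero])

include hX in
lemma exists_rep_germ (f : A) (y : X) (hy : y ∈ dO π f) (z : Oy π y ⊗[A] M) :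
    ∃ (g : A) (_ : dO π g ≤ dO π f) (hyg : y ∈ dO π g) (t : Sec π (dO π g) ⊗[A] M),
      push M (gy π hyg) t = z := by
  induction z using TensorProduct.induction_on with
  | zero => exact ⟨f, le_rfl, hy, 0, map_zero _⟩
  | tmul c m =>
    obtain ⟨U, hU, r, hr⟩ := TopCat.Presheaf.exists_germ_eq X.presheaf c
    obtain ⟨g, hyg, hg⟩ := exists_dO hX (U ⊓ dO π f) y ⟨hU, hy⟩
    refine ⟨g, hg.trans inf_le_right, hyg, (rs π (U := U) (hg.trans inf_le_left) r) ⊗ₜ[A] m, ?_⟩
    rw [push, LinearMap.rTensor_tmul, AlgHom.toLinearMap_apply, ← AlgHom.comp_apply, gy_rs]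
    exact congrArg (· ⊗ₜ[A] m) hr
  | add a b ha hb =>
    obtain ⟨g₁, hle₁, hy₁, t₁, rfl⟩ := ha
    obtain ⟨g₂, -, hy₂, t₂, rfl⟩ := hb
    obtain ⟨g, hyg, hg⟩ := exists_dO hX (dO π g₁ ⊓ dO π g₂) y ⟨hy₁, hy₂⟩
    refine ⟨g, (hg.trans inf_le_left).trans hle₁, hyg,
      push M (rs π (hg.trans inf_le_left)) t₁ + push M (rs π (hg.trans inf_le_right)) t₂, ?_⟩
    rw [map_add, push_push, push_push, gy_rs, gy_rs]

lemma germ_eq_iff {U : Opens X.toTopCat} (a b : GSec π M U)
    (h : ∀ y (hy : y ∈ U), gG π M hy a = gG π M hy b) : a = b :=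
  TopCat.Presheaf.section_ext ((Stalk.toAbSh X.sheaf).obj (_root_.HensSch.sphTilde π M)) U
    (show ((Stalk.toP X.sheaf).obj (_root_.HensSch.sphTilde π M)).presheaf.obj (op U) from a) b h

lemma exists_nhd_eq {U : Opens X.toTopCat} {y : X} (hy : y ∈ U) (a b : GSec π M U)
    (h : gG π M hy a = gG π M hy b) :
    ∃ (W : Opens X.toTopCat) (hW : W ≤ U), y ∈ W ∧ rsG π M hW a = rsG π M hW b := by
  obtain ⟨W, hyW, i, j, hij⟩ := TopCat.Presheaf.germ_eq
    ((Stalk.toP X.sheaf).obj (_root_.HensSch.sphTilde π M)).presheaf y hy hy a b h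
  exact ⟨W, i.le, hyW, hij⟩

include hX in
theorem surjective_Theta (f : A) : Function.Surjective (Theta π M (dO π f)) := by
  intro σ
  have hloc : ∀ y : {y : X // y ∈ dO π f}, ∃ (g : A) (h : dO π g ≤ dO π f)
      (t : Sec π (dO π g) ⊗[A] M), y.1 ∈ dO π g ∧ Theta π M (dO π g) t = rsG π M h σ := by
    intro y
    obtain ⟨z, hz⟩ := (bijective_Psi π M y.1).2 (gG π M y.2 σ)
    obtain ⟨g₁, h₁, hy₁, t₁, ht₁⟩ := exists_rep_germ hX M f y.1 y.2 z
    obtain ⟨W, hW, hyW, heq⟩ := exists_nhd_eq M hy₁ (Theta π M _ t₁) (rsG π M h₁ σ) (by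
      rw [gG_Theta, gG_rsG, ← hz]
      exact congrArg (Psi π M y.1) ht₁)
    obtain ⟨g, hyg, hg⟩ := exists_dO hX W y.1 hyW
    refine ⟨g, (hg.trans hW).trans h₁, push M (rs π (hg.trans hW)) t₁, hyg, ?_⟩
    refine (rsG_Theta π M (hg.trans hW) t₁).symm.trans ?_
    rw [← rsG_rsG π M hW hg, heq, rsG_rsG, rsG_rsG]
  choose g hle t hmem ht using hloc
  obtain ⟨s, hs⟩ := exists_dO_subcover hX f hmem
  haveI := henselianRing_sec hX f
  let κ := {y // y ∈ s}
  have h2 : ∀ i j : κ, dO π (g i.1 * g j.1) ≤ dO π f := fun i j =>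
    (dO_mul (π := π) _ _).le.trans (inf_le_left.trans (hle i.1))
  have hl : ∀ i j : κ, dO π (g i.1 * g j.1) ≤ dO π (g i.1) := fun i j =>
    (dO_mul (π := π) _ _).le.trans inf_le_left
  have hr : ∀ i j : κ, dO π (g i.1 * g j.1) ≤ dO π (g j.1) := fun i j =>
    (dO_mul (π := π) _ _).le.trans inf_le_right
  letI inst : ∀ i : κ, Algebra (Sec π (dO π f)) (Sec π (dO π (g i.1))) := fun i =>
    (rs π (hle i.1)).toRingHom.toAlgebra
  letI inst₂ : ∀ i j : κ, Algebra (Sec π (dO π f)) (Sec π (dO π (g i.1 * g j.1))) := fun i j =>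
    (rs π (h2 i j)).toRingHom.toAlgebra
  let r₁ : ∀ i j : κ, Sec π (dO π (g i.1)) →ₐ[Sec π (dO π f)] Sec π (dO π (g i.1 * g j.1)) := fun i j =>
    { (rs π (hl i j)).toRingHom with
      commutes' := fun a => AlgHom.congr_fun (rs_rs π (hle i.1) (hl i j)) a }
  let r₂ : ∀ i j : κ, Sec π (dO π (g j.1)) →ₐ[Sec π (dO π f)] Sec π (dO π (g i.1 * g j.1)) := fun i j =>
    { (rs π (hr i j)).toRingHom with
      commutes' := fun a => AlgHom.congr_fun (rs_rs π (hle j.1) (hr i j)) a }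
  have hagree : ∀ i j : κ, push M (rs π (hl i j)) (t i.1) = push M (rs π (hr i j)) (t j.1) := fun i j => by
    refine injective_Theta hX M _ ?_
    refine ((rsG_Theta π M (hl i j) _).symm.trans ?_).trans (rsG_Theta π M (hr i j) _)
    rw [ht, ht, rsG_rsG, rsG_rsG]
  obtain ⟨m, hm, -⟩ := existsUnique_glue (S := Sec π (dO π f)) (M := Sec π (dO π f) ⊗[A] M)
    (J := I.map (algebraMap A (Sec π (dO π f)))) (fun i : κ => algebraMap A (Sec π (dO π f)) (g i.1))
    (fun q hq hJ => hcov_of_cover hX f (fun i : κ => g i.1)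
      (fun y hy => let ⟨i, hi, hiy⟩ := hs y hy; ⟨⟨i, hi⟩, hiy⟩) q hq hJ)
    (fun i => Sec π (dO π (g i.1))) (fun i => isHensAway_rs hX (hle i.1))
    (fun i j => Sec π (dO π (g i.1 * g j.1)))
    (fun i j => map_mul (algebraMap A (Sec π (dO π f))) _ _ ▸ isHensAway_rs hX (h2 i j)) r₁ r₂
    (fun i => (cbc M (hle i.1)).symm (t i.1)) (fun i j => by
      refine (cbc M (h2 i j)).injective ?_
      rw [cbc_push M (hle i.1) (h2 i j) (hl i j) (r₁ i j) (fun _ => rfl),
        cbc_push M (hle j.1) (h2 i j) (hr i j) (r₂ i j) (fun _ => rfl),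
        AddEquiv.apply_symm_apply, AddEquiv.apply_symm_apply]
      exact hagree i j)
  refine ⟨m, germ_eq_iff M _ _ fun y hy => ?_⟩
  obtain ⟨i, hi, hyi⟩ := hs y hy
  have h1 := congrArg (cbc M (hle i)) (hm ⟨i, hi⟩)
  rw [AddEquiv.apply_symm_apply, cbc_one_tmul] at h1
  rw [← gG_rsG π M (hle i) hyi, rsG_Theta, ← gG_rsG π M (hle i) hyi σ, ← ht]
  exact congrArg (fun z => gG π M hyi (Theta π M _ z)) h1

include hX in
/-- The sections formula. -/
theorem bijective_Theta (f : A) : Function.Bijective (Theta π M (dO π f)) :=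
  ⟨injective_Theta hX M f, surjective_Theta hX M f⟩

end Groth.Agent.Lib.HensSch.SphSections
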