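import Groth.Agent.Lib.HensSch.Flat
import Mathlib.RingTheory.IsTensorProduct
import Mathlib.RingTheory.Localization.BaseChange

/-!
# Sections and stalks of `M~` on an affine Henselian spectrum

For `π : X ⟶ Spec A` and an `A`-module `M`:
* `Sec π U`, `GSec π M U`: sections of `O_X` and of `M~`, as `A`-algebra and `A`-module;
* `theta`: `M → Γ(U, M~)`, and its extension `Theta : O(U) ⊗ M → Γ(U, M~)`;
* `Oy`, `Fy`, `Psi : O_y ⊗ M ≅ (M~)_y`.
-/

universe u

open CategoryTheory Opposite TopologicalSpace AlgebraicGeometry Topology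
open scoped TensorProduct

set_option linter.style.haveILetI false

namespace Groth.Agent.Lib.HensSch.SphSections

open Groth.Agent.Lib.RingedMod

variable {A : Type u} [CommRing A] {X : LocallyRingedSpace.{u}}
  (π : X ⟶ _root_.HensSch.specLRS A) (M : ModuleCat.{u} A)

lemma le_preimage_top (U : Opens X.toTopCat) : U ≤ (Opens.map π.base).obj ⊤ := fun _ _ => trivial

/-- Sections of `O_X`, as an `A`-algebra through `π`. -/
def Sec (_π : X ⟶ _root_.HensSch.specLRS A) (U : Opens X.toTopCat) : Type u := X.presheaf.obj (op U)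

noncomputable instance (U : Opens X.toTopCat) : CommRing (Sec π U) :=
  inferInstanceAs (CommRing (X.presheaf.obj (op U)))

/-- The structure map `A → O_X(U)`. -/
noncomputable def gs (U : Opens X.toTopCat) : A →+* Sec π U :=
  (X.presheaf.map (homOfLE (le_preimage_top π U)).op).hom.comp
    ((π.c.app (op ⊤)).hom.comp (Scheme.ΓSpecIso (CommRingCat.of A)).inv.hom)

noncomputable instance (U : Opens X.toTopCat) : Algebra A (Sec π U) := (gs π U).toAlgebra

lemma algebraMap_sec (U : Opens X.toTopCat) : algebraMap A (Sec π U) = gs π U := rfl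

lemma gs_preimage (W : Opens (_root_.HensSch.specLRS A).toTopCat) :
    gs π ((Opens.map π.base).obj W) = _root_.HensSch.secMap π W := rfl

/-- Restriction. -/
noncomputable def rs {U V : Opens X.toTopCat} (h : V ≤ U) : Sec π U →ₐ[A] Sec π V where
  __ := (X.presheaf.map (homOfLE h).op).hom
  commutes' a := by
    show (X.presheaf.map (homOfLE h).op).hom ((X.presheaf.map (homOfLE (le_preimage_top π U)).op).hom _) =
      (X.presheaf.map (homOfLE (le_preimage_top π V)).op).hom _
    rw [← CommRingCat.comp_apply, ← Functor.map_comp]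
    rfl

lemma rs_rs {U V W : Opens X.toTopCat} (h : V ≤ U) (h' : W ≤ V) :
    (rs π h').comp (rs π h) = rs π (h'.trans h) := AlgHom.ext fun s => by
  show (X.presheaf.map (homOfLE h').op).hom ((X.presheaf.map (homOfLE h).op).hom s) = _
  rw [← CommRingCat.comp_apply, ← Functor.map_comp]
  rfl

/-- Sections of `M~`. -/
def GSec (U : Opens X.toTopCat) : Type u :=
  ((Stalk.toP X.sheaf).obj (_root_.HensSch.sphTilde π M)).obj (op U)

noncomputable instance (U : Opens X.toTopCat) : AddCommGroup (GSec π M U) :=
  inferInstanceAs (AddCommGroup (((Stalk.toP X.sheaf).obj (_root_.HensSch.sphTilde π M)).obj (op U)))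

noncomputable instance (U : Opens X.toTopCat) : Module (Sec π U) (GSec π M U) :=
  inferInstanceAs (Module (Stalk.RU X.sheaf U)
    (((Stalk.toP X.sheaf).obj (_root_.HensSch.sphTilde π M)).obj (op U)))

noncomputable instance (U : Opens X.toTopCat) : Module A (GSec π M U) := Module.compHom _ (gs π U)

instance (U : Opens X.toTopCat) : IsScalarTower A (Sec π U) (GSec π M U) :=
  IsScalarTower.of_algebraMap_smul fun _ _ => rfl

/-- Restriction of sections of `M~`. -/
noncomputable def rsG {U V : Opens X.toTopCat} (h : V ≤ U) : GSec π M U →+ GSec π M V where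
  toFun := Stalk.res ((Stalk.toP X.sheaf).obj (_root_.HensSch.sphTilde π M)) h
  map_zero' := map_zero _
  map_add' := map_add _

lemma rsG_smul {U V : Opens X.toTopCat} (h : V ≤ U) (s : Sec π U) (x : GSec π M U) :
    rsG π M h (s • x) = rs π h s • rsG π M h x :=
  Stalk.res_smul (O := X.sheaf) (P := (Stalk.toP X.sheaf).obj (_root_.HensSch.sphTilde π M)) h s x

lemma rsG_rsG {U V W : Opens X.toTopCat} (h : V ≤ U) (h' : W ≤ V) (x : GSec π M U) :
    rsG π M h' (rsG π M h x) = rsG π M (h'.trans h) x :=
  (ConcreteCategory.congr_hom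
    (((Stalk.toP X.sheaf).obj (_root_.HensSch.sphTilde π M)).presheaf.map_comp
      (homOfLE h).op (homOfLE h').op) x).symm

/-- The canonical map to global sections. -/
noncomputable def theta0 (m : M) : GSec π M ((Opens.map π.base).obj ⊤) :=
  (((_root_.HensSch.pullPushAdj π).unit.app (tilde M)).val.app (op ⊤)).hom
    (((tilde.adjunction (R := CommRingCat.of A)).unit.app M).hom m)

lemma theta0_add (m n : M) : theta0 π M (m + n) = theta0 π M m + theta0 π M n :=
  (congrArg (((_root_.HensSch.pullPushAdj π).unit.app (tilde M)).val.app (op ⊤)).hom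
    (map_add ((tilde.adjunction (R := CommRingCat.of A)).unit.app M).hom m n)).trans (map_add _ _ _)

lemma theta0_smul (a : A) (m : M) :
    theta0 π M (a • m) = (show Sec π ((Opens.map π.base).obj ⊤) from
      (π.c.app (op ⊤)).hom ((Scheme.ΓSpecIso (CommRingCat.of A)).inv.hom a)) • theta0 π M m :=
  (congrArg (((_root_.HensSch.pullPushAdj π).unit.app (tilde M)).val.app (op ⊤)).hom
    (map_smul ((tilde.adjunction (R := CommRingCat.of A)).unit.app M).hom a m)).trans
    ((((_root_.HensSch.pullPushAdj π).unit.app (tilde M)).val.app (op ⊤)).hom.map_smul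
      ((Scheme.ΓSpecIso (CommRingCat.of A)).inv.hom a) _)

/-- The canonical map `M → Γ(U, M~)`. -/
noncomputable def theta (U : Opens X.toTopCat) : M →ₗ[A] GSec π M U where
  toFun m := rsG π M (le_preimage_top π U) (theta0 π M m)
  map_add' m n := by rw [theta0_add, map_add]
  map_smul' a m := by
    rw [theta0_smul, rsG_smul]
    rfl

lemma rsG_theta {U V : Opens X.toTopCat} (h : V ≤ U) (m : M) :
    rsG π M h (theta π M U m) = theta π M V m :=
  rsG_rsG π M _ h _

/-- The extension `O(U) ⊗ M → Γ(U, M~)`. -/
noncomputable def Theta (U : Opens X.toTopCat) : Sec π U ⊗[A] M →ₗ[Sec π U] GSec π M U :=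
  (theta π M U).liftBaseChange (Sec π U)

lemma Theta_tmul (U : Opens X.toTopCat) (s : Sec π U) (m : M) :
    Theta π M U (s ⊗ₜ[A] m) = s • theta π M U m := LinearMap.liftBaseChange_tmul _ _ _ _

lemma rsG_Theta {U V : Opens X.toTopCat} (h : V ≤ U) (t : Sec π U ⊗[A] M) :
    rsG π M h (Theta π M U t) = Theta π M V ((rs π h).toLinearMap.rTensor M t) := by
  induction t using TensorProduct.induction_on with
  | zero => simp
  | add a b ha hb => simp only [map_add, ha, hb]
  | tmul s m =>
    rw [LinearMap.rTensor_tmul, Theta_tmul, Theta_tmul, rsG_smul, rsG_theta]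
    rfl

/-! ### Stalks -/

/-- The stalk of `O_X`, as an `A`-algebra through `π`. -/
def Oy (_π : X ⟶ _root_.HensSch.specLRS A) (y : X) : Type u := Stalk.Ox X.sheaf y

noncomputable instance (y : X) : CommRing (Oy π y) := inferInstanceAs (CommRing (Stalk.Ox X.sheaf y))

instance (y : X) : IsLocalRing (Oy π y) := inferInstanceAs (IsLocalRing (X.presheaf.stalk y))

/-- The structure map `A → O_y`. -/
noncomputable def gy0 (y : X) : A →+* Oy π y :=
  (Pullback.sm π y).comp (StructureSheaf.toStalk A (π.base y)).hom

noncomputable instance (y : X) : Algebra A (Oy π y) := (gy0 π y).toAlgebra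

/-- Germs. -/
noncomputable def gy {U : Opens X.toTopCat} {y : X} (h : y ∈ U) : Sec π U →ₐ[A] Oy π y where
  __ := (X.presheaf.germ U y h).hom
  commutes' a := by
    refine (TopCat.Presheaf.germ_res_apply X.presheaf (homOfLE (le_preimage_top π U)) y h _).trans ?_
    exact (LocallyRingedSpace.stalkMap_germ_apply π ⊤ y trivial _).symm

lemma gy_rs {U V : Opens X.toTopCat} (h : V ≤ U) {y : X} (hy : y ∈ V) :
    (gy π hy).comp (rs π h) = gy π (h hy) :=
  AlgHom.ext fun s => TopCat.Presheaf.germ_res_apply X.presheaf (homOfLE h) y hy s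

/-- The stalk of `M~`. -/
def Fy (y : X) : Type u := Stalk.st y ((Stalk.toP X.sheaf).obj (_root_.HensSch.sphTilde π M))

noncomputable instance (y : X) : AddCommGroup (Fy π M y) :=
  inferInstanceAs (AddCommGroup (Stalk.st y ((Stalk.toP X.sheaf).obj (_root_.HensSch.sphTilde π M))))

noncomputable instance (y : X) : Module (Oy π y) (Fy π M y) :=
  inferInstanceAs (Module (Stalk.Ox X.sheaf y)
    (Stalk.st y ((Stalk.toP X.sheaf).obj (_root_.HensSch.sphTilde π M))))

noncomputable instance (y : X) : Module A (Fy π M y) := Module.compHom _ (gy0 π y)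

instance (y : X) : IsScalarTower A (Oy π y) (Fy π M y) :=
  IsScalarTower.of_algebraMap_smul fun _ _ => rfl

/-- Germs of sections of `M~`. -/
noncomputable def gG {U : Opens X.toTopCat} {y : X} (h : y ∈ U) : GSec π M U →+ Fy π M y :=
  (TopCat.Presheaf.germ ((Stalk.toP X.sheaf).obj (_root_.HensSch.sphTilde π M)).presheaf U y h).hom

lemma gG_smul {U : Opens X.toTopCat} {y : X} (h : y ∈ U) (s : Sec π U) (x : GSec π M U) :
    gG π M h (s • x) = gy π h s • gG π M h x :=
  Stalk.germ_smul (P := (Stalk.toP X.sheaf).obj (_root_.HensSch.sphTilde π M)) h s x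

lemma gG_rsG {U V : Opens X.toTopCat} (h : V ≤ U) {y : X} (hy : y ∈ V) (x : GSec π M U) :
    gG π M hy (rsG π M h x) = gG π M (h hy) x :=
  Stalk.germ_res h hy x

/-- The canonical map `M → (M~)_y`. -/
noncomputable def thetaY (y : X) : M →ₗ[A] Fy π M y where
  toFun m := gG π M (U := (Opens.map π.base).obj ⊤) (y := y) trivial (theta π M _ m)
  map_add' m n := by rw [map_add, map_add]
  map_smul' a m := by
    rw [map_smul, RingHom.id_apply, ← algebraMap_smul (Sec π ((Opens.map π.base).obj ⊤)) a, gG_smul,
      AlgHom.commutes, algebraMap_smul]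

lemma gG_theta {U : Opens X.toTopCat} {y : X} (h : y ∈ U) (m : M) :
    gG π M h (theta π M U m) = thetaY π M y m := by
  show _ = gG π M (U := (Opens.map π.base).obj ⊤) (y := y) trivial (theta π M _ m)
  rw [← rsG_theta π M (le_preimage_top π U), gG_rsG]

/-- `O_y ⊗ M → (M~)_y`. -/
noncomputable def Psi (y : X) : Oy π y ⊗[A] M →ₗ[Oy π y] Fy π M y :=
  (thetaY π M y).liftBaseChange (Oy π y)

lemma gG_Theta {U : Opens X.toTopCat} {y : X} (h : y ∈ U) (t : Sec π U ⊗[A] M) :
    gG π M h (Theta π M U t) = Psi π M y ((gy π h).toLinearMap.rTensor M t) := by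
  induction t using TensorProduct.induction_on with
  | zero => simp
  | add a b ha hb => simp only [map_add, ha, hb]
  | tmul s m =>
    rw [LinearMap.rTensor_tmul, Theta_tmul, gG_smul, gG_theta]
    exact (LinearMap.liftBaseChange_tmul _ _ _ _).symm

/-- The stalk formula `(M~)_y = O_y ⊗_A M`. -/
theorem bijective_Psi (y : X) : Function.Bijective (Psi π M y) := by
  let p := π.base y
  let R := Stalk.Ox (_root_.HensSch.specLRS A).sheaf p
  let T : Type u := Stalk.st p ((Stalk.toP (_root_.HensSch.specLRS A).sheaf).obj (tilde M))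
  let ρ : A →+* R := (StructureSheaf.toStalk A p).hom
  letI algR : Algebra A R := ρ.toAlgebra
  letI modRT : Module R T := Stalk.moduleSt p _
  letI : Module A T := Module.compHom T ρ
  haveI : IsScalarTower A R T := IsScalarTower.of_algebraMap_smul fun _ _ => rfl
  letI : Algebra R (Oy π y) := (Pullback.sm π y).toAlgebra
  haveI : IsScalarTower A R (Oy π y) := IsScalarTower.of_algebraMap_eq fun _ => rfl
  let σ : R →+* Oy π y := Pullback.sm π y
  letI : Module R (Fy π M y) := Module.compHom _ σ
  haveI : IsScalarTower R (Oy π y) (Fy π M y) := IsScalarTower.of_algebraMap_smul fun _ _ => rfl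
  haveI : IsScalarTower A R (Fy π M y) := IsScalarTower.of_algebraMap_smul fun _ _ => rfl
  haveI : IsLocalization.AtPrime R p.asIdeal := StructureSheaf.IsLocalization.to_stalk A p
  let j : M →ₗ[A] T := StructureSheaf.toStalkₗ A M p
  haveI hj : IsLocalizedModule p.asIdeal.primeCompl j :=
    inferInstanceAs (IsLocalizedModule p.asIdeal.primeCompl (StructureSheaf.toStalkₗ A M p))
  have hb : IsBaseChange R j := (isLocalizedModule_iff_isBaseChange p.asIdeal.primeCompl R j).mp hj
  let k : T →ₗ[R] Fy π M y := (Pullback.unitStalk π y (tilde M)).hom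
  have hk : IsBaseChange (Oy π y) k := by
    let e : Oy π y ⊗[R] T ≃ₗ[Oy π y] Fy π M y :=
      ((Pullback.pullbackStalkIso π y).app (tilde M)).toLinearEquiv
    refine IsBaseChange.of_equiv e fun a => ?_
    exact Pullback.comparison_one_tmul π y (tilde M) a
  have h := hb.comp hk
  have hj' : ∀ m : M, (k.restrictScalars A).comp j m = thetaY π M y m := fun m => by
    refine (congrArg (Pullback.pushStalkMap π y _)
      (Stalk.stMap_germ ((Stalk.toP _).map ((_root_.HensSch.pullPushAdj π).unit.app (tilde M)))
        (U := ⊤) (x := p) trivial _)).trans ?_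
    refine (Pullback.pushStalkMap_germ π y _ (U := ⊤) trivial _).trans ?_
    show gG π M (U := (Opens.map π.base).obj ⊤) (y := y) trivial (theta0 π M m) = _
    exact (gG_rsG π M (le_refl _) (U := (Opens.map π.base).obj ⊤) (V := (Opens.map π.base).obj ⊤)
      (y := y) trivial (theta0 π M m)).symm
  have heq : ∀ t, Psi π M y t = h.equiv t := by
    intro t
    induction t using TensorProduct.induction_on with
    | zero => simp
    | add a b ha hb => simp only [map_add, ha, hb]
    | tmul c m =>
      rw [IsBaseChange.equiv_tmul, hj']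
      exact LinearMap.liftBaseChange_tmul _ _ _ _
  rw [show (⇑(Psi π M y)) = h.equiv from funext heq]
  exact h.equiv.bijective

end Groth.Agent.Lib.HensSch.SphSections
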